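import Groth.Agent.Lib.Constructible.Supp

/-!
# Closures of constructible sets consist of specializations
-/

set_option autoImplicit false
universe u

open CategoryTheory AlgebraicGeometry Topology

namespace GrothLib.ConstrCpt

variable {X : Scheme.{u}} [CompactSpace X] [QuasiSeparatedSpace X]

theorem exists_specializes {S : Set X} (hS : IsConstructible S) {x : X} (hx : x ∈ closure S) :
    ∃ y ∈ S, y ⤳ x := by
  classical
  by_contra hcon
  have h : ∀ y : S, ∃ U : Set X, IsOpen U ∧ IsCompact U ∧ x ∈ U ∧ (y : X) ∉ U := by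
    rintro ⟨y, hy⟩
    obtain ⟨O, hO, hxO, hyO⟩ := not_specializes_iff_exists_open.1 fun h => hcon ⟨y, hy, h⟩
    obtain ⟨_, ⟨U, hU, rfl⟩, hxU, hUO⟩ := X.isBasis_affineOpens.exists_subset_of_mem_open hxO hO
    exact ⟨U, U.isOpen, hU.isCompact, hxU, fun h => hyO (hUO h)⟩
  choose U hUo hUc hxU hyU using h
  obtain ⟨t, ht⟩ := @IsCompact.elim_finite_subcover X (constructibleTopology _) S S
    (GrothLib.Constr.isCompact_constructibleTopology_of_isClosed
      (GrothLib.Constr.isClosed_constructibleTopology_of_isConstructible hS))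
    (fun y => (U y)ᶜ)
    (fun y => (GrothLib.Constr.isOpen_constructibleTopology_of_isConstructible
      (((hUc y).isConstructible (hUo y)).compl)).1)
    (fun y hy => Set.mem_iUnion.2 ⟨⟨y, hy⟩, hyU ⟨y, hy⟩⟩)
  obtain ⟨z, hz, hzS⟩ := mem_closure_iff.1 hx (⋂ y ∈ t, U y)
    (isOpen_biInter_finset fun y _ => hUo y) (Set.mem_iInter₂.2 fun y _ => hxU y)
  obtain ⟨y, hy, hzy⟩ := Set.mem_iUnion₂.1 (ht hzS)
  exact hzy (Set.mem_iInter₂.1 hz y hy)

end GrothLib.ConstrCpt
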