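import Groth.Agent.Lib.ConstrCpt.Killed
import Groth.Agent.Lib.EtShriek.ColimApp

/-!
# Torsion sheaves are filtered colimits of constructible sheaves

The index set: finite sets of generators and of relations among finitely many generators.
-/

set_option autoImplicit false
set_option backward.isDefEq.respectTransparency.types false
universe u

open CategoryTheory CategoryTheory.Limits AlgebraicGeometry Opposite
open GrothLib.EtSite GrothLib.EtShriek

noncomputable section

namespace GrothLib.ConstrCpt

variable {X : Scheme.{u}} {F : EtCoh.Ab X}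

/-- Generators of any positive exponent. -/
abbrev Gen₀ (F : EtCoh.Ab X) : Type (u + 1) := Gen (fun m => 0 < m) F

abbrev srcS (S : Finset (Gen₀ F)) : EtCoh.Ab X := src fun i : ↥S => i.1

abbrev totS (S : Finset (Gen₀ F)) : srcS S ⟶ F := total fun i : ↥S => i.1

/-- Inclusion of sums of generators. -/
def incS {S S' : Finset (Gen₀ F)} (h : S ⊆ S') : srcS S ⟶ srcS S' :=
  incl (fun i : ↥S' => i.1) fun i : ↥S => ⟨i.1, h i.2⟩

theorem incS_tot {S S' : Finset (Gen₀ F)} (h : S ⊆ S') : incS h ≫ totS S' = totS S :=
  incl_total _ _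

theorem incS_trans {S S' S'' : Finset (Gen₀ F)} (h : S ⊆ S') (h' : S' ⊆ S'') :
    incS h ≫ incS h' = incS (h.trans h') := biproduct.hom_ext' _ _ fun i => by
  simp only [incS, incl, biproduct.ι_desc_assoc, biproduct.ι_desc]

theorem incS_refl (S : Finset (Gen₀ F)) : incS (Finset.Subset.refl S) = 𝟙 (srcS S) :=
  biproduct.hom_ext' _ _ fun i => by
    simp only [incS, incl, biproduct.ι_desc, Category.comp_id]

theorem hasColimitsOfShape_small (J : Type (u + 1)) [SmallCategory J] :
    HasColimitsOfShape J (EtCoh.Ab X) :=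
  (inferInstance : HasColimitsOfShape J (Sheaf X.smallEtaleTopology AddCommGrpCat.{u + 1}))

/-- A relation among finitely many generators. -/
abbrev Rel (F : EtCoh.Ab X) : Type (u + 1) := Σ S : Finset (Gen₀ F), Gen₀ (kernel (totS S))

/-- Finite sets of generators and relations. -/
abbrev Idx (F : EtCoh.Ab X) : Type (u + 1) := Finset (Gen₀ F ⊕ Rel F)

open scoped Classical in
/-- The generators occurring in an index. -/
def gens (T : Idx F) : Finset (Gen₀ F) := T.biUnion (Sum.elim (fun g => {g}) fun r => r.1)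

theorem gens_mono {T T' : Idx F} (h : T ≤ T') : gens T ⊆ gens T' := by
  classical
  exact Finset.biUnion_subset_biUnion_of_subset_left _ h

theorem mem_gens {T : Idx F} {g : Gen₀ F} (h : Sum.inl g ∈ T) : g ∈ gens T := by
  classical
  exact Finset.mem_biUnion.2 ⟨_, h, Finset.mem_singleton_self g⟩

theorem subset_gens {T : Idx F} {r : Rel F} (h : Sum.inr r ∈ T) : r.1 ⊆ gens T := by
  classical
  exact fun g hg => Finset.mem_biUnion.2 ⟨_, h, hg⟩

/-- The map of a relation of an index. -/
def relMap (T : Idx F) (r : ↥T.toRight) : r.1.2.obj ⟶ srcS (gens T) :=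
  r.1.2.φ ≫ kernel.ι (totS r.1.1) ≫ incS (subset_gens (Finset.mem_toRight.1 r.2))

/-- The relations of an index. -/
def rho (T : Idx F) : (⨁ fun r : ↥T.toRight => r.1.2.obj) ⟶ srcS (gens T) :=
  biproduct.desc (relMap T)

theorem ι_rho (T : Idx F) (r : ↥T.toRight) :
    biproduct.ι (fun r : ↥T.toRight => r.1.2.obj) r ≫ rho T = relMap T r := biproduct.ι_desc _ _

theorem rho_incS {T T' : Idx F} (h : T ≤ T') :
    rho T ≫ incS (gens_mono h) ≫ cokernel.π (rho T') = 0 := biproduct.hom_ext' _ _ fun r => by
  let r' : ↥T'.toRight := ⟨r.1, Finset.mem_toRight.2 (h (Finset.mem_toRight.1 r.2))⟩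
  have e : relMap T r ≫ incS (gens_mono h) = relMap T' r' := by
    simp only [relMap, Category.assoc, incS_trans]
    rfl
  rw [comp_zero, ← Category.assoc, ι_rho, ← Category.assoc, e, ← ι_rho, Category.assoc,
    cokernel.condition, comp_zero]

/-- The sheaf presented by an index. -/
@[reducible] def diag (F : EtCoh.Ab X) : Idx F ⥤ EtCoh.Ab X where
  obj T := cokernel (rho T)
  map {T T'} f := cokernel.desc _ (incS (gens_mono (leOfHom f)) ≫ cokernel.π (rho T'))
    (rho_incS (leOfHom f))
  map_id T := coequalizer.hom_ext (by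
    change cokernel.π (rho T) ≫ _ = cokernel.π (rho T) ≫ 𝟙 _
    rw [cokernel.π_desc, incS_refl, Category.id_comp, Category.comp_id])
  map_comp {T T' T''} f g := coequalizer.hom_ext (by
    change cokernel.π (rho T) ≫ _ = cokernel.π (rho T) ≫ _
    rw [cokernel.π_desc, cokernel.π_desc_assoc, Category.assoc, cokernel.π_desc,
      ← Category.assoc, incS_trans])

theorem π_diag_map {T T' : Idx F} (f : T ⟶ T') :
    cokernel.π (rho T) ≫ (diag F).map f = incS (gens_mono (leOfHom f)) ≫ cokernel.π (rho T') :=
  cokernel.π_desc _ _ _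

theorem rho_tot (T : Idx F) : rho T ≫ totS (gens T) = 0 := biproduct.hom_ext' _ _ fun r => by
  rw [comp_zero, ← Category.assoc, ι_rho, relMap, Category.assoc, Category.assoc, incS_tot,
    kernel.condition, comp_zero]

/-- The cocone to `F`. -/
@[reducible] def coconeF (F : EtCoh.Ab X) : Cocone (diag F) where
  pt := F
  ι :=
    { app := fun T => cokernel.desc _ (totS (gens T)) (rho_tot T)
      naturality := fun T T' f => by
        refine coequalizer.hom_ext ?_
        change cokernel.π (rho T) ≫ (diag F).map f ≫ _ = cokernel.π (rho T) ≫ _ ≫ 𝟙 F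
        rw [← Category.assoc, π_diag_map, Category.assoc, cokernel.π_desc, incS_tot,
          Category.comp_id, cokernel.π_desc] }

theorem π_coconeF (T : Idx F) :
    cokernel.π (rho T) ≫ (coconeF F).ι.app T = totS (gens T) :=
  cokernel.π_desc _ _ _

theorem exists_kernel_lift {A B : EtCoh.Ab X} (f : A ⟶ B) {Ω : Type u} [Field Ω] [IsSepClosed Ω]
    (ξ : Spec (CommRingCat.of Ω) ⟶ X) (z : (EtCoh.stalk ξ).obj A)
    (hz : (EtCoh.stalk ξ).map f z = 0) :
    ∃ k, (EtCoh.stalk ξ).map (kernel.ι f) k = z :=
  (ShortComplex.ab_exact_iff _).1 ((ShortComplex.exact_kernel f).map (EtCoh.stalk ξ)) z hz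

theorem surjective_stalk_π {A B : EtCoh.Ab X} (f : A ⟶ B) {Ω : Type u} [Field Ω] [IsSepClosed Ω]
    (ξ : Spec (CommRingCat.of Ω) ⟶ X) : Function.Surjective ((EtCoh.stalk ξ).map (cokernel.π f)) :=
  (AddCommGrpCat.epi_iff_surjective _).1 inferInstance

variable [CompactSpace X] [QuasiSeparatedSpace X]

theorem isConstructible_diag (T : Idx F) : EtPBC.IsConstructible ((diag F).obj T) := by
  refine (Constructible.isConstructible_kernel_cokernel (rho T) ?_
    (isConstructible_src (fun _ h => h) _)).2
  let g : ↥T.toRight → Gen₀ F := fun r => ⟨r.1.2.V, r.1.2.m, r.1.2.hm, r.1.2.affine, 0⟩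
  exact isConstructible_src (fun _ h => h) g

theorem stalkColim_coconeF (hT : Tors (fun m => 0 < m) F) : StalkColim (diag F) (coconeF F) := by
  classical
  intro Ω _ _ ξ
  refine ⟨fun x => ?_, fun T y hy => ?_⟩
  · obtain ⟨g, q, rfl⟩ := exists_hit hT ξ x
    let T : Idx F := {Sum.inl g}
    let i : ↥(gens T) := ⟨g, mem_gens (Finset.mem_singleton_self _)⟩
    refine ⟨T, (EtCoh.stalk ξ).map (biproduct.ι (fun j : ↥(gens T) => j.1.obj) i ≫ cokernel.π (rho T)) q, ?_⟩
    refine (ConcreteCategory.comp_apply _ _ _).symm.trans ?_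
    rw [← Functor.map_comp, Category.assoc, π_coconeF]
    exact congrArg (fun f => (EtCoh.stalk ξ).map f q)
      (biproduct.ι_desc (fun j : ↥(gens T) => j.1.φ) i)
  · obtain ⟨z, rfl⟩ := surjective_stalk_π (rho T) ξ y
    rw [← ConcreteCategory.comp_apply, ← Functor.map_comp, π_coconeF] at hy
    obtain ⟨k, rfl⟩ := exists_kernel_lift (totS (gens T)) ξ z hy
    obtain ⟨g, q, rfl⟩ := exists_hit (tors_of_mono (kernel.ι (totS (gens T)))
      (tors_of_constructible (isConstructible_src (fun _ h => h) _))) ξ k
    let r : Rel F := ⟨gens T, g⟩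
    let T' : Idx F := insert (Sum.inr r) T
    let f : T ⟶ T' := homOfLE (Finset.subset_insert _ _)
    refine ⟨T', f, ?_⟩
    let r' : ↥T'.toRight := ⟨r, Finset.mem_toRight.2 (Finset.mem_insert_self _ _)⟩
    have e : g.φ ≫ kernel.ι (totS (gens T)) ≫ cokernel.π (rho T) ≫ (diag F).map f = 0 := by
      rw [π_diag_map]
      have h1 : relMap T' r' = g.φ ≫ kernel.ι (totS (gens T)) ≫ incS (gens_mono (leOfHom f)) := rfl
      have h2 := congrArg (· ≫ cokernel.π (rho T')) (h1.symm.trans (ι_rho T' r').symm)
      simp only [Category.assoc, cokernel.condition, comp_zero] at h2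
      exact h2
    simp only [← ConcreteCategory.comp_apply, ← Functor.map_comp, Category.assoc]
    rw [e, Functor.map_zero]
    rfl

/-- Every torsion sheaf is a filtered colimit of constructible sheaves. -/
theorem isColimit_coconeF (hT : Tors (fun m => 0 < m) F) : Nonempty (IsColimit (coconeF F)) := by
  classical
  haveI : IsFiltered (Idx F) := inferInstance
  haveI : HasColimitsOfShape (Idx F) (EtCoh.Ab X) := hasColimitsOfShape_small (Idx F)
  exact @isColimit_of_stalkColim _ _ _ _ (diag F) (coconeF F) (stalkColim_coconeF hT)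
    (HasColimitsOfShape.has_colimit (diag F)) fun Ω _ _ ξ =>
    (PreservesFilteredColimitsOfSize.preserves_filtered_colimits (Idx F)).preservesColimit

theorem exists_colimit_of_isTorsion (hF : EtCoh.IsTorsion F) :
    ∃ (J : Type (u + 1)) (_ : SmallCategory J) (_ : IsFiltered J) (D : J ⥤ EtCoh.Ab X)
      (c : Cocone D) (_ : IsColimit c), (∀ j, EtPBC.IsConstructible (D.obj j)) ∧ Nonempty (c.pt ≅ F) := by
  classical
  exact ⟨Idx F, inferInstance, inferInstance, diag F, coconeF F,
    (isColimit_coconeF (tors_of_isTorsion hF)).some, isConstructible_diag, ⟨Iso.refl F⟩⟩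

/-- Compact torsion sheaves are constructible. -/
theorem isConstructible_of_compact (hF : EtCoh.IsTorsion F)
    (hc : ∀ (J : Type (u + 1)) [SmallCategory J] [IsFiltered J],
      PreservesColimitsOfShape J (coyoneda.obj (op F))) :
    EtPBC.IsConstructible F := by
  classical
  haveI := hc (Idx F)
  obtain ⟨T, s, hs⟩ := Types.jointly_surjective_of_isColimit
    (isColimitOfPreserves (coyoneda.obj (op F)) (isColimit_coconeF (tors_of_isTorsion hF)).some)
    (𝟙 F)
  let π : (diag F).obj T ⟶ F := (coconeF F).ι.app T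
  have hsπ : s ≫ π = 𝟙 F := hs
  let k := kernel (𝟙 ((diag F).obj T) - π ≫ s)
  have h0 : s ≫ (𝟙 ((diag F).obj T) - π ≫ s) = 0 := by
    rw [Preadditive.comp_sub, Category.comp_id, ← Category.assoc, hsπ, Category.id_comp, sub_self]
  let e : F ≅ k :=
    { hom := kernel.lift _ s h0
      inv := kernel.ι _ ≫ π
      hom_inv_id := by rw [kernel.lift_ι_assoc, hsπ]
      inv_hom_id := by
        rw [← cancel_mono (kernel.ι _), Category.assoc, kernel.lift_ι, Category.id_comp]
        have h := kernel.condition (𝟙 ((diag F).obj T) - π ≫ s)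
        rw [Preadditive.comp_sub, sub_eq_zero, Category.comp_id] at h
        rw [Category.assoc]
        exact h.symm }
  exact Constructible.isConstructible_openPart_separated.isConstructible_of_iso e.symm
    (Constructible.isConstructible_kernel_cokernel _ (isConstructible_diag T) (isConstructible_diag T)).1

end GrothLib.ConstrCpt
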