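import Groth.Agent.Lib.ConstrCpt.Killed
import Groth.Agent.Lib.EtShriek.ColimApp

/-!
# Constructible sheaves are compact
-/

set_option autoImplicit false
set_option backward.isDefEq.respectTransparency.types false
universe w u

open CategoryTheory CategoryTheory.Limits AlgebraicGeometry Opposite
open GrothLib.EtSite GrothLib.EtShriek

noncomputable section

namespace GrothLib.ConstrCpt

variable {X : Scheme.{u}}

/-- Morphisms out of `F` into filtered colimits of the given shape factor through a stage,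
uniquely up to passing to a later stage. -/
def Cpt (J : Type w) [Category.{w} J] (F : EtCoh.Ab X) : Prop :=
  ∀ (D : J ⥤ EtCoh.Ab X) (c : Cocone D), StalkColim D c →
    (∀ φ : F ⟶ c.pt, ∃ (j : J) (ψ : F ⟶ D.obj j), ψ ≫ c.ι.app j = φ) ∧
    ∀ (j : J) (ψ : F ⟶ D.obj j), ψ ≫ c.ι.app j = 0 → ∃ (k : J) (a : j ⟶ k), ψ ≫ D.map a = 0

variable {J : Type w} [Category.{w} J] [IsFiltered J]

theorem cpt_of_iso {F G : EtCoh.Ab X} (e : F ≅ G) (h : Cpt J F) : Cpt J G := fun D c hc => by
  obtain ⟨hs, hi⟩ := h D c hc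
  refine ⟨fun φ => ?_, fun j ψ hψ => ?_⟩
  · obtain ⟨j, ψ, hψ⟩ := hs (e.hom ≫ φ)
    exact ⟨j, e.inv ≫ ψ, by rw [Category.assoc, hψ, e.inv_hom_id_assoc]⟩
  · obtain ⟨k, a, hk⟩ := hi j (e.hom ≫ ψ) (by rw [Category.assoc, hψ, comp_zero])
    exact ⟨k, a, by rw [Category.assoc] at hk; exact (cancel_epi e.hom).1 (hk.trans comp_zero.symm)⟩

theorem cpt_cokernel {A B : EtCoh.Ab X} (f : A ⟶ B) (hA : Cpt J A) (hB : Cpt J B) :
    Cpt J (cokernel f) := fun D c hc => by
  refine ⟨fun φ => ?_, fun j ψ hψ => ?_⟩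
  · obtain ⟨j, ψ, hψ⟩ := (hB D c hc).1 (cokernel.π f ≫ φ)
    obtain ⟨k, a, hk⟩ := (hA D c hc).2 j (f ≫ ψ)
      (by rw [Category.assoc, hψ, cokernel.condition_assoc, zero_comp])
    refine ⟨k, cokernel.desc f (ψ ≫ D.map a) (by rw [← Category.assoc]; exact hk), ?_⟩
    refine coequalizer.hom_ext ?_
    change cokernel.π f ≫ _ = cokernel.π f ≫ φ
    rw [cokernel.π_desc_assoc, Category.assoc, c.w, hψ]
  · obtain ⟨k, a, hk⟩ := (hB D c hc).2 j (cokernel.π f ≫ ψ)
      (by rw [Category.assoc, hψ, comp_zero])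
    exact ⟨k, a, (cancel_epi (cokernel.π f)).1 (by rw [← Category.assoc, hk, comp_zero])⟩

theorem cpt_biproduct {a : ℕ} (G : Fin a → EtCoh.Ab X) (h : ∀ i, Cpt J (G i)) : Cpt J (⨁ G) :=
  fun D c hc => by
    classical
    refine ⟨fun φ => ?_, fun j ψ hψ => ?_⟩
    · choose j ψ hψ using fun i => (h i D c hc).1 (biproduct.ι G i ≫ φ)
      obtain ⟨k, hk⟩ := IsFiltered.sup_objs_exists (Finset.univ.image j)
      let a := fun i => (hk (Finset.mem_image_of_mem j (Finset.mem_univ i))).some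
      refine ⟨k, biproduct.desc fun i => ψ i ≫ D.map (a i), biproduct.hom_ext' _ _ fun i => ?_⟩
      rw [biproduct.ι_desc_assoc, Category.assoc, c.w, hψ]
    · choose l φ hl using fun i => (h i D c hc).2 j (biproduct.ι G i ≫ ψ)
        (by rw [Category.assoc, hψ, comp_zero])
      obtain ⟨m, χ, hm⟩ := exists_common Finset.univ l φ
      refine ⟨m, χ, biproduct.hom_ext' _ _ fun i => ?_⟩
      obtain ⟨θ, hθ⟩ := hm i (Finset.mem_univ i)
      rw [← hθ, D.map_comp, comp_zero, ← Category.assoc, ← Category.assoc, hl, zero_comp]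

theorem cpt_extZeroConst (V : X.Etale) [CompactSpace V.left] [QuasiSeparatedSpace V.left] (m : ℕ) :
    Cpt J (EtPBC.extZeroConst V (ZMod m)) := fun D c hc => by
  refine ⟨fun φ => ?_, fun j ψ hψ => ?_⟩
  · obtain ⟨k, a, ha⟩ := exists_stage hc V (φ.hom.app (op V) (one V m))
    obtain ⟨l, b, hb⟩ := exists_kill hc V k (m • a) (by
      rw [map_nsmul, ha, ← map_nsmul, nsmul_one, map_zero])
    rw [map_nsmul] at hb
    obtain ⟨ψ, hψ⟩ := exists_zhom _ hb
    refine ⟨l, ψ, zhom_ext ?_⟩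
    exact (congrArg ((c.ι.app l).hom.app (op V)) hψ).trans ((ι_map_apply D c b V a).trans ha)
  · obtain ⟨l, b, hb⟩ := exists_kill hc V j (ψ.hom.app (op V) (one V m))
      (congrArg (fun f : EtPBC.extZeroConst V (ZMod m) ⟶ c.pt => f.hom.app (op V) (one V m)) hψ)
    exact ⟨l, b, zhom_ext (hb.trans rfl)⟩

theorem cpt_src {P : ℕ → Prop} {F : EtCoh.Ab X} {a : ℕ} (g : Fin a → Gen P F) : Cpt J (src g) :=
  cpt_biproduct _ fun i => by
    haveI := (g i).affine
    exact cpt_extZeroConst (g i).V (g i).m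

/-- Constructible sheaves are compact. -/
theorem cpt_of_constructible [CompactSpace X] [QuasiSeparatedSpace X] {F : EtCoh.Ab X}
    (hF : EtPBC.IsConstructible F) : Cpt J F := by
  obtain ⟨a, b, g, h, ⟨e⟩⟩ := exists_presentation (P := fun m => 0 < m) (fun _ h => h) hF
    (tors_of_constructible hF) fun a g =>
      tors_of_mono (kernel.ι (total g)) (tors_of_constructible (isConstructible_src (fun _ h => h) g))
  exact cpt_of_iso e.symm (cpt_cokernel _ (cpt_src h) (cpt_src g))

theorem stalkColim_small {J : Type u} [SmallCategory J] [IsFiltered J] {D : J ⥤ EtCoh.Ab X}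
    {c : Cocone D} (hc : IsColimit c) : StalkColim D c :=
  stalkColim_of_isColimit hc fun Ω _ _ ξ => by
    haveI : PreservesColimitsOfShape J (CategoryTheory.forget AddCommGrpCat.{u + 1}) :=
      PreservesFilteredColimitsOfSize.preserves_filtered_colimits J
    haveI : PreservesColimitsOfShape J (EtCoh.stalk ξ) := by infer_instance
    infer_instance

/-- `Hom(F, -)` commutes with filtered colimits for constructible `F`. -/
theorem preservesColimitsOfShape_of_constructible [CompactSpace X] [QuasiSeparatedSpace X]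
    {F : EtCoh.Ab X} (hF : EtPBC.IsConstructible F) (J : Type u) [SmallCategory J] [IsFiltered J] :
    PreservesColimitsOfShape J (coyoneda.obj (op F)) :=
  ⟨fun {D} => ⟨fun {c} hc => by
    obtain ⟨hs, hi⟩ := cpt_of_constructible hF D c (stalkColim_small hc)
    refine ⟨Types.FilteredColimit.isColimitOf _ _ (fun φ => ?_) fun i j (φ : F ⟶ D.obj i) (ψ : F ⟶ D.obj j) (e : φ ≫ c.ι.app i = ψ ≫ c.ι.app j) => ?_⟩
    · obtain ⟨j, ψ, h⟩ := hs φ
      exact ⟨j, ψ, h.symm⟩
    · let k := IsFiltered.max i j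
      obtain ⟨l, a, ha⟩ := hi k (φ ≫ D.map (IsFiltered.leftToMax i j) - ψ ≫ D.map (IsFiltered.rightToMax i j))
        (by rw [Preadditive.sub_comp, Category.assoc, Category.assoc, c.w, c.w, e, sub_self])
      refine ⟨l, IsFiltered.leftToMax i j ≫ a, IsFiltered.rightToMax i j ≫ a, ?_⟩
      change φ ≫ D.map _ = ψ ≫ D.map _
      rw [Preadditive.sub_comp, sub_eq_zero, Category.assoc, Category.assoc] at ha
      rw [D.map_comp, D.map_comp]
      exact ha⟩⟩

/-- A filtered colimit of constructible sheaves with constructible value is essentially constant. -/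
theorem essentially_constant [CompactSpace X] [QuasiSeparatedSpace X]
    {J : Type u} [SmallCategory J] [IsFiltered J] (D : J ⥤ EtCoh.Ab X)
    (c : Cocone D) (hc : IsColimit c)
    (hD : ∀ j, EtPBC.IsConstructible (D.obj j)) (hF : EtPBC.IsConstructible c.pt) :
    ∃ (i : J) (s : c.pt ⟶ D.obj i), s ≫ c.ι.app i = 𝟙 c.pt ∧
      ∀ j : J, ∃ (k : J) (a : i ⟶ k) (b : j ⟶ k), D.map b = c.ι.app j ≫ s ≫ D.map a := by
  have hs := stalkColim_small hc
  obtain ⟨i, s, h⟩ := (cpt_of_constructible hF D c hs).1 (𝟙 _)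
  refine ⟨i, s, h, fun j => ?_⟩
  obtain ⟨l, a, ha⟩ := (cpt_of_constructible (hD j) D c hs).2 (IsFiltered.max i j)
    (D.map (IsFiltered.rightToMax i j) - c.ι.app j ≫ s ≫ D.map (IsFiltered.leftToMax i j))
    (by rw [Preadditive.sub_comp, Category.assoc, Category.assoc, c.w, c.w, h]; exact sub_eq_zero.2 (Category.comp_id _).symm)
  refine ⟨l, IsFiltered.leftToMax i j ≫ a, IsFiltered.rightToMax i j ≫ a, ?_⟩
  rw [Preadditive.sub_comp, sub_eq_zero, Category.assoc, Category.assoc] at ha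
  rw [D.map_comp, D.map_comp]
  exact ha

end GrothLib.ConstrCpt
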