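import Groth.Agent.Lib.EtLimit.Free
import Mathlib.Algebra.FreeAbelianGroup.Finsupp

/-!
# Injective abelian sheaves are divisible
-/

set_option autoImplicit false
set_option backward.isDefEq.respectTransparency false
universe u

open CategoryTheory CategoryTheory.Limits AlgebraicGeometry Opposite
open GrothLib.SheafCoh GrothLib.EtSite GrothLib.EtColim GrothLib.EtLimit

noncomputable section

namespace GrothLib.ConstrCpt

variable {X : Scheme.{u}}

theorem mono_nsmul_free {C : Type (u + 1)} [Category.{u + 1} C] (U : C) {n : ℕ} (hn : n ≠ 0) :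
    Mono (n • 𝟙 (yoneda.obj U ⋙ AddCommGrpCat.free.{u + 1})) := by
  haveI : ∀ c, Mono ((n • 𝟙 (yoneda.obj U ⋙ AddCommGrpCat.free.{u + 1})).app c) := fun c => by
    rw [AddCommGrpCat.mono_iff_injective]
    intro a b h
    let e := FreeAbelianGroup.equivFinsupp ((yoneda.obj U).obj c)
    change n • a = n • b at h
    apply e.injective
    have h' := congrArg e h
    rw [map_nsmul, map_nsmul] at h'
    exact Finsupp.ext fun i => by
      have hi := congrArg (fun f => f i) h'
      simp only [Finsupp.smul_apply] at hi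
      exact nsmul_right_injective hn hi
  exact NatTrans.mono_of_mono_app _

theorem mono_nsmul_ZV (V : X.Etale) {n : ℕ} (hn : n ≠ 0) : Mono (n • 𝟙 (ZV V)) := by
  haveI := mono_nsmul_free (up V) hn
  haveI : (presheafToSheaf (JS X) AddCommGrpCat.{u + 1}).Additive :=
    Functor.additive_of_preserves_binary_products _
  haveI : (E X).inverse.Additive := Functor.additive_of_preserves_binary_products _
  have h1 : (presheafToSheaf (JS X) AddCommGrpCat.{u + 1}).map
      (n • 𝟙 (yoneda.obj (up V) ⋙ AddCommGrpCat.free.{u + 1})) = n • 𝟙 (freeY (JS X) (up V)) := by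
    rw [Functor.map_nsmul, CategoryTheory.Functor.map_id]
  haveI : Mono (n • 𝟙 (freeY (JS X) (up V))) := h1 ▸ inferInstance
  have h2 : (E X).inverse.map (n • 𝟙 (freeY (JS X) (up V))) = n • 𝟙 (ZV V) := by
    rw [Functor.map_nsmul, CategoryTheory.Functor.map_id]
    rfl
  exact h2 ▸ inferInstance

/-- Sections of injective sheaves are divisible. -/
theorem exists_nsmul_eq {I : EtCoh.Ab X} [Injective I] {V : X.Etale} (s : EtCoh.sect I V) {n : ℕ}
    (hn : n ≠ 0) : ∃ t : EtCoh.sect I V, n • t = s := by
  haveI := mono_nsmul_ZV V hn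
  refine ⟨(Injective.factorThru (ofSect s) (n • 𝟙 (ZV V))).hom.app (op V) (gen V), ?_⟩
  have h := congrArg (fun φ : ZV V ⟶ I => φ.hom.app (op V) (gen V))
    (Injective.comp_factorThru (ofSect s) (n • 𝟙 (ZV V)))
  simp only [Preadditive.nsmul_comp, Category.id_comp, ofSect_gen] at h
  exact h

/-- Multiplication by a nonzero integer on an injective sheaf is an epimorphism. -/
theorem epi_nsmul_id {I : EtCoh.Ab X} [Injective I] {n : ℕ} (hn : n ≠ 0) : Epi (n • 𝟙 I) :=
  epi_of_stalks _ fun Ω _ _ ξ p => by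
    obtain ⟨U, t, s, rfl⟩ := exists_germ ξ I p
    obtain ⟨r, rfl⟩ := exists_nsmul_eq s hn
    exact ⟨germ ξ I t r, stalk_map_germ ξ (n • 𝟙 I) t r⟩

end GrothLib.ConstrCpt
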