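import Groth.Agent.Lib.ConstrCpt.ExtKill
import Groth.Agent.Lib.ConstrCpt.Divisible
import Groth.Agent.Lib.ConstrCpt.Compact
import Groth.Agent.Lib.ConstrCpt.ColimPres
import Groth.Agent.Lib.EtColim.Cohomology
import Groth.Agent.Lib.EtFastInst

/-!
# Cohomology of constructible sheaves is effaceable by constructible sheaves
-/

set_option autoImplicit false
set_option backward.isDefEq.respectTransparency false
universe u

open CategoryTheory CategoryTheory.Limits CategoryTheory.Abelian AlgebraicGeometry Opposite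
open GrothLib.EtSite GrothLib.EtColim
open scoped GrothLib.EtFast

noncomputable section

namespace GrothLib.ConstrCpt

variable {X : Scheme.{u}}

theorem nsmul_id_eq_zero_of_epi {A B : EtCoh.Ab X} (p : A ⟶ B) [Epi p] {n : ℕ}
    (h : n • 𝟙 A = 0) : n • 𝟙 B = 0 := by
  rw [← cancel_epi p, Preadditive.comp_nsmul, Category.comp_id, comp_zero, ← Category.id_comp p,
    ← Preadditive.nsmul_comp, h, zero_comp]

/-- A constructible sheaf is killed by a positive integer. -/
theorem exists_killed [CompactSpace X] [QuasiSeparatedSpace X] {F : EtCoh.Ab X}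
    (hF : EtPBC.IsConstructible F) : ∃ n : ℕ, n ≠ 0 ∧ n • 𝟙 F = 0 := by
  obtain ⟨a, g, hg⟩ := exists_epi (P := fun m => 0 < m) (fun _ h => h) hF (tors_of_constructible hF)
  refine ⟨∏ i, (g i).m, Finset.prod_ne_zero_iff.2 fun i _ => (g i).hm.ne',
    nsmul_id_eq_zero_of_epi (total g) (biproduct.hom_ext' _ _ fun i => ?_)⟩
  obtain ⟨k, hk⟩ := Finset.dvd_prod_of_mem (fun i => (g i).m) (Finset.mem_univ i)
  rw [hk, mul_comm, mul_nsmul, Preadditive.comp_nsmul, Preadditive.comp_nsmul, Category.comp_id,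
    comp_zero]
  have h := congrArg (· ≫ biproduct.ι (fun i => (g i).obj) i) (nsmul_id_extZeroConst (g i).V (g i).m)
  simp only [Preadditive.nsmul_comp, Category.id_comp, zero_comp] at h
  first
    | rw [h, nsmul_zero]
    | (rw [← mul_nsmul, mul_comm, mul_nsmul, h, nsmul_zero])
    | (rw [← mul_nsmul', mul_comm, mul_nsmul', h, nsmul_zero])

theorem isTorsion_of_killedBy {F : EtCoh.Ab X} {n : ℕ} (hn : n ≠ 0) (h : EtCoh.KilledBy n F) :
    EtCoh.IsTorsion F := fun U s x =>
  ⟨U, 𝟙 U, ⟨x, rfl⟩, isOfFinAddOrder_iff_nsmul_eq_zero.2 ⟨n, Nat.pos_of_ne_zero hn, h U _⟩⟩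

/-- An injective sheaf restricted to its `n`-torsion has no higher cohomology. -/
theorem ext_torsion_eq_zero {I : EtCoh.Ab X} [Injective I] {n : ℕ} (hn : n ≠ 0) {q : ℕ}
    (x : Ext.{u + 1} (Z X) (kernel (n • 𝟙 I)) (q + 1)) : x = 0 :=
  haveI := epi_nsmul_id (I := I) hn
  ext_kernel_eq_zero (n • 𝟙 I) (Z X) (fun a => by
    obtain ⟨t, ht⟩ := exists_nsmul_eq (evOne I a) hn
    obtain ⟨b, rfl⟩ := (bijective_evOne I).2 t
    exact ⟨b, (bijective_evOne I).1 ht⟩) x

/-- A class dying in a colimit of sheaves dies at a stage. -/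
theorem exists_stage_kill [CompactSpace X] [QuasiSeparatedSpace X] {J : Type (u + 1)}
    [SmallCategory J] [IsFiltered J] (D : J ⥤ EtCoh.Ab X) (c : Cocone D) (hc : IsColimit c)
    (j : J) {p : ℕ} (β : Ext.{u + 1} (Z X) (D.obj j) p)
    (h : β.comp (Ext.mk₀ (c.ι.app j)) (add_zero p) = 0) :
    ∃ (k : J) (f : j ⟶ k), β.comp (Ext.mk₀ (D.map f)) (add_zero p) = 0 := by
  let e := hc.coconePointUniqueUpToIso (colimit.isColimit D)
  refine (gen_and_kill D p).2 j β ?_
  have he : c.ι.app j ≫ e.hom = colimit.ι D j := hc.comp_coconePointUniqueUpToIso_hom _ j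
  rw [← he, ← Ext.mk₀_comp_mk₀, ← Ext.comp_assoc_of_third_deg_zero]
  simp only [h, Ext.zero_comp]

theorem exists_mono_killing [CompactSpace X] [QuasiSeparatedSpace X]
    (F : EtCoh.Ab X) (hF : EtPBC.IsConstructible F) (q : ℕ) (hq : 0 < q) (α : EtCoh.H X F q) :
    ∃ (G : EtCoh.Ab X) (u : F ⟶ G), EtPBC.IsConstructible G ∧ Mono u ∧
      (EtCoh.HF X q).map u α = 0 := by
  classical
  obtain ⟨n, hn, hnF⟩ := exists_killed hF
  obtain ⟨p, rfl⟩ : ∃ p, q = p + 1 := ⟨q - 1, by omega⟩
  let K := kernel (n • 𝟙 (Injective.under F))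
  have hK : n • 𝟙 K = 0 := by
    rw [← cancel_mono (kernel.ι _), Preadditive.nsmul_comp, Category.id_comp, zero_comp]
    have := kernel.condition (n • 𝟙 (Injective.under F))
    rwa [Preadditive.comp_nsmul, Category.comp_id] at this
  have hT : Tors (fun m => 0 < m) K :=
    tors_of_isTorsion (isTorsion_of_killedBy hn (killedBy_of_nsmul_id hK))
  let v : F ⟶ K := kernel.lift _ (Injective.ι F) (by
    rw [Preadditive.comp_nsmul, Category.comp_id, ← Category.id_comp (Injective.ι F),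
      ← Preadditive.nsmul_comp, hnF, zero_comp])
  haveI : Mono v := mono_of_mono_fac (kernel.lift_ι _ _ _)
  haveI : IsFiltered (Idx K) := inferInstance
  obtain ⟨j, w, hw⟩ := (cpt_of_constructible hF (diag K) (coconeF K) (stalkColim_coconeF hT)).1 v
  obtain ⟨hc⟩ := isColimit_coconeF hT
  let β : Ext.{u + 1} (Z X) ((diag K).obj j) (p + 1) := Ext.comp α (Ext.mk₀ w) (add_zero _)
  obtain ⟨k, f, hf⟩ := exists_stage_kill (diag K) (coconeF K) hc j β
    (ext_torsion_eq_zero (I := Injective.under F) hn _)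
  refine ⟨(diag K).obj k, w ≫ (diag K).map f, isConstructible_diag k, ?_, ?_⟩
  · haveI : Mono ((w ≫ (diag K).map f) ≫ (coconeF K).ι.app k) := by
      rw [Category.assoc, (coconeF K).w, hw]
      infer_instance
    exact mono_of_mono _ ((coconeF K).ι.app k)
  · rw [HF_map_apply, ← Ext.mk₀_comp_mk₀, ← Ext.comp_assoc_of_third_deg_zero]
    exact hf

end GrothLib.ConstrCpt
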