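import Groth.Agent.Lib.Constructible.FinEtalePushConstr
import Groth.Agent.Lib.RedSub.Basic
import Mathlib.Data.Fin.Tuple.Sort

/-!
# Finite filtrations of constructible sheaves

An increasing chain of quasi-compact opens whose steps lie in single strata gives a filtration
with successive quotients extensions by zero of finite locally constant sheaves on the strata.
-/

set_option autoImplicit false
set_option backward.isDefEq.respectTransparency.types false
universe u

open CategoryTheory CategoryTheory.Limits AlgebraicGeometry Opposite Topology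
open GrothLib.EtSite GrothLib.ExtZero GrothLib.Constructible

noncomputable section

namespace GrothLib.ConstrCpt

variable {X : Scheme.{u}}

/-- Finitely many constructible pieces along which `F` is finite locally constant. -/
theorem exists_pieces [CompactSpace X] [QuasiSeparatedSpace X] (F : EtCoh.Ab X)
    (hF : EtPBC.IsConstructible F) :
    ∃ (κ : Type u) (_ : Finite κ) (T : κ → Scheme.{u}) (g : ∀ i, T i ⟶ X),
      (∀ i, IsImmersion (g i)) ∧ (∀ i, IsConstructible (Set.range (g i).base)) ∧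
      (∀ x, ∃ i, x ∈ Set.range (g i).base) ∧
      ∀ i, EtCoh.IsFiniteLocallyConstant ((EtCoh.pull (g i)).obj F) := by
  choose V hV hxV _ using fun x : X => exists_isAffineOpen_mem_and_subset (U := ⊤) (x := x) trivial
  obtain ⟨t, ht⟩ := isCompact_univ.elim_finite_subcover (fun x => (V x : Set X)) (fun x => (V x).2)
    (fun x _ => Set.mem_iUnion.2 ⟨x, hxV x⟩)
  choose n T g himm hcons hdisj hcov hflc using fun x : t => hF (V x.1) (hV x.1)
  refine ⟨Σ x : t, ULift.{u} (Fin (n x)), inferInstance, fun p => T p.1 p.2.down, fun p => g p.1 p.2.down,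
    fun p => himm _ _, fun p => ?_, fun x => ?_, fun p => hflc p.1 p.2.down⟩
  · have hop : IsOpenEmbedding (Subtype.val : ↥(V p.1.1 : Set X) → X) := (V p.1.1).2.isOpenEmbedding_subtypeVal
    have himg := (hcons p.1 p.2.down).image_of_isOpenEmbedding hop (by
      rw [Subtype.range_coe]
      exact (hV p.1.1).isCompact.isRetrocompact (V p.1.1).2)
    rw [Set.image_preimage_eq_of_subset] at himg
    · exact himg
    · rw [Subtype.range_coe]
      exact range_immersion_subset (F := F) (hcov p.1) p.2.down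
  · obtain ⟨y, hy, hxy⟩ := Set.mem_iUnion₂.1 (ht (Set.mem_univ x))
    obtain ⟨k, hk⟩ := Set.mem_iUnion.1 ((hcov ⟨y, hy⟩).ge hxy)
    exact ⟨⟨⟨y, hy⟩, ⟨k⟩⟩, hk⟩

/-- An increasing chain of opens with constructible steps inside single pieces. -/
theorem exists_chain [CompactSpace X] [QuasiSeparatedSpace X] {κ : Type u} [Finite κ] (C : κ → Set X)
    (hC : ∀ i, IsConstructible (C i)) (hcov : ∀ x, ∃ i, x ∈ C i) :
    ∃ (N : ℕ) (D : Fin (N + 1) → X.Opens), D 0 = ⊥ ∧ D (Fin.last N) = ⊤ ∧
      ∀ k : Fin N, D k.castSucc ≤ D k.succ ∧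
        IsConstructible ((D k.succ : Set X) \ D k.castSucc) ∧
        ((D k.succ : Set X) \ D k.castSucc = ∅ ∨ ∃ i, (D k.succ : Set X) \ D k.castSucc ⊆ C i) := by
  classical
  choose O hO hsat using fun i => exists_generators (hC i)
  haveI := Fintype.ofFinite κ
  let P := Finset.univ.biUnion O
  have hP : ∀ o ∈ P, IsOpen o ∧ IsRetrocompact o := fun o ho => by
    obtain ⟨i, -, hi⟩ := Finset.mem_biUnion.1 ho
    exact hO i o hi
  let pat : X → Finset (Set X) := fun x => P.filter fun o => x ∈ o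
  let N := P.powerset.card
  obtain ⟨e⟩ : Nonempty (Fin N ≃ P.powerset) := ⟨P.powerset.equivFin.symm⟩
  let wt : Fin N → ℕ := fun a => P.card - (e a).1.card
  obtain ⟨σ, hmono⟩ : ∃ σ : Equiv.Perm (Fin N), Monotone (wt ∘ σ) := ⟨_, Tuple.monotone_sort wt⟩
  let s : Fin N → Finset (Set X) := fun a => (e (σ a)).1
  have hs : ∀ a, s a ⊆ P := fun a => Finset.mem_powerset.1 (e (σ a)).2
  let W : Fin N → Set X := fun a => ⋂ o ∈ s a, o
  have hWo : ∀ a, IsOpen (W a) := fun a => isOpen_biInter_finset fun o ho => (hP o (hs a ho)).1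
  have hWc : ∀ a, IsConstructible (W a) := fun a =>
    IsConstructible.biInter (s a).finite_toSet fun o ho => (hP o (hs a ho)).2.isConstructible (hP o (hs a ho)).1
  let D : Fin (N + 1) → X.Opens := fun k =>
    ⟨⋃ a : {a : Fin N // a.val < k.val}, W a.1, isOpen_iUnion fun a => hWo _⟩
  have hpat : ∀ x, ∃ a, s a = pat x := fun x => by
    obtain ⟨b, hb⟩ := e.surjective ⟨pat x, Finset.mem_powerset.2 (Finset.filter_subset _ _)⟩
    obtain ⟨a, rfl⟩ := σ.surjective b
    exact ⟨a, congrArg Subtype.val hb⟩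
  have hmem : ∀ x a, x ∈ W a ↔ s a ⊆ pat x := fun x a => by
    simp only [W, Set.mem_iInter]
    exact ⟨fun h o ho => Finset.mem_filter.2 ⟨hs a ho, h o ho⟩, fun h o ho => (Finset.mem_filter.1 (h ho)).2⟩
  refine ⟨N, D, ?_, ?_, fun k => ⟨?_, ?_, ?_⟩⟩
  · ext x
    simp [D]
  · refine top_le_iff.1 fun x _ => ?_
    obtain ⟨a, ha⟩ := hpat x
    exact Set.mem_iUnion.2 ⟨⟨a, a.2⟩, (hmem x a).2 ha.le⟩
  · intro x hx
    obtain ⟨a, ha⟩ := Set.mem_iUnion.1 hx
    exact Set.mem_iUnion.2 ⟨⟨a.1, lt_of_lt_of_le a.2 (Nat.le_succ _)⟩, ha⟩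
  · change IsConstructible ((⋃ a : {a : Fin N // a.val < k.succ.val}, W a.1) \
      (⋃ a : {a : Fin N // a.val < k.castSucc.val}, W a.1))
    exact IsConstructible.sdiff (IsConstructible.iUnion fun a => hWc a.1)
      (IsConstructible.iUnion fun a => hWc a.1)
  · have key : ∀ x ∈ (D k.succ : Set X) \ D k.castSucc, pat x = s k := by
      rintro x ⟨hx, hx'⟩
      obtain ⟨⟨a, ha⟩, hxa⟩ := Set.mem_iUnion.1 hx
      have hak : a = k := by
        by_contra hne
        refine hx' (Set.mem_iUnion.2 ⟨⟨a, ?_⟩, hxa⟩)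
        have : a.val ≠ k.val := fun h => hne (Fin.ext h)
        simp only [Fin.val_succ, Fin.val_castSucc] at ha ⊢
        omega
      subst hak
      obtain ⟨b, hb⟩ := hpat x
      refine ((Finset.eq_of_subset_of_card_le ((hmem x a).1 hxa) ?_)).symm
      by_contra hlt
      have hba : b < a := by
        by_contra h
        have h' := hmono (not_lt.1 h)
        have h1 := Finset.card_le_card (hs b)
        rw [← hb] at hlt
        simp only [Function.comp_apply, wt] at h'
        change P.card - (s a).card ≤ P.card - (s b).card at h'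
        omega
      exact hx' (Set.mem_iUnion.2 ⟨⟨b, hba⟩, (hmem x b).2 hb.le⟩)
    by_cases hne : ((D k.succ : Set X) \ D k.castSucc).Nonempty
    · obtain ⟨x, hx⟩ := hne
      obtain ⟨i, hi⟩ := hcov x
      refine Or.inr ⟨i, fun y hy => (hsat i x y fun o ho => ?_).1 hi⟩
      have hoP : o ∈ P := Finset.mem_biUnion.2 ⟨i, Finset.mem_univ i, ho⟩
      have h' : pat x = pat y := (key x hx).trans (key y hy).symm
      have h'' := Finset.ext_iff.1 h' o
      simp only [pat, Finset.mem_filter, hoP, true_and] at h''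
      exact h''
    · exact Or.inl (Set.not_nonempty_iff_eq_empty.1 hne)

variable (F : EtCoh.Ab X) {V D : X.Opens}

/-- One step of the filtration. -/
theorem exists_step (hVD : V ≤ D) {W : Scheme.{u}} (c : W ⟶ (D : Scheme.{u})) [IsClosedImmersion c]
    (hc : Set.range c.base = D.ι.base ⁻¹' (V : Set X)ᶜ) :
    ∃ (π : openPart F D ⟶ (EtShriek.extZero D.ι).obj
        ((EtCoh.push c).obj ((EtCoh.pull c).obj ((EtShriek.restrAlong D.ι).obj F))))
      (hz : openMap F hVD ≫ π = 0), (ShortComplex.mk (openMap F hVD) π hz).ShortExact := by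
  let H := (EtShriek.restrAlong D.ι).obj F
  let Q := (EtShriek.extZero D.ι).obj ((EtCoh.push c).obj ((EtCoh.pull c).obj H))
  let π : openPart F D ⟶ Q := (EtShriek.extZero D.ι).map ((EtCoh.pullPushAdj c).unit.app H)
  have hQ : ∀ (Ω : Type u) [Field Ω] [IsSepClosed Ω] (ξ : Spec (CommRingCat.of Ω) ⟶ X),
      (ξ.base default ∈ V ∨ ξ.base default ∉ D) → IsZero ((EtCoh.stalk ξ).obj Q) := fun Ω _ _ ξ h => by
    by_cases hD : ξ.base default ∈ D
    · obtain ⟨u, rfl⟩ := exists_lift_of_mem D.ι ξ (by rw [Scheme.Opens.range_ι]; exact hD)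
      have hV : (u ≫ D.ι).base default ∈ V := h.resolve_right (not_not.2 hD)
      refine IsZero.of_iso ?_ ((restrStalkIso D.ι u).app Q).symm
      haveI := isIso_unit D.ι ((EtCoh.push c).obj ((EtCoh.pull c).obj H))
      refine IsZero.of_iso ?_ ((EtCoh.stalk u).mapIso
        (asIso ((EtShriek.extZeroAdj D.ι).unit.app ((EtCoh.push c).obj ((EtCoh.pull c).obj H))))).symm
      exact stalk_push_isZero c _ u fun hm => (hc.le hm) hV
    · exact stalk_extZero_isZero D.ι _ ξ (ne_of_notMem_range D.ι ξ (by rw [Scheme.Opens.range_ι]; exact hD))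
  have hzero : openMap F hVD ≫ π = 0 := zero_of_stalks _ fun Ω _ _ ξ => by
    by_cases hV : ξ.base default ∈ V
    · exact (hQ Ω ξ (Or.inl hV)).eq_of_tgt _ _
    · ext p
      rw [eq_zero_of_notMem F ξ hV p, map_zero, map_zero]
  have hiso : ∀ (Ω : Type u) [Field Ω] [IsSepClosed Ω] (ξ : Spec (CommRingCat.of Ω) ⟶ X),
      ξ.base default ∈ D → ξ.base default ∉ V → IsIso ((EtCoh.stalk ξ).map π) := fun Ω _ _ ξ hD hV => by
    obtain ⟨u, rfl⟩ := exists_lift_of_mem D.ι ξ (by rw [Scheme.Opens.range_ι]; exact hD)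
    obtain ⟨z, hz⟩ : u.base default ∈ Set.range c.base := hc.ge hV
    obtain ⟨ζ, rfl⟩ := GrothLib.EtSite.exists_point_lift c u z hz
    refine (NatIso.isIso_map_iff (restrStalkIso D.ι (ζ ≫ c)) π).1 ?_
    let n := (EtShriek.extZeroAdj D.ι).unit.naturality ((EtCoh.pullPushAdj c).unit.app H)
    have h1 : IsIso ((EtCoh.stalk (ζ ≫ c)).map ((EtCoh.pullPushAdj c).unit.app H)) := by
      have := isIso_counit c ((EtCoh.pull c).obj H)
      have : IsIso (𝟙 ((EtCoh.pull c).obj H)) := IsIso.id _
      have : IsIso ((EtCoh.pull c).map ((EtCoh.pullPushAdj c).unit.app H)) :=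
        IsIso.of_isIso_fac_right ((EtCoh.pullPushAdj c).left_triangle_components H)
      exact (NatIso.isIso_map_iff (pullStalkIso ζ c) _).1
        (inferInstanceAs (IsIso ((EtCoh.stalk ζ).map
          ((EtCoh.pull c).map ((EtCoh.pullPushAdj c).unit.app H)))))
    let B := (EtCoh.push c).obj ((EtCoh.pull c).obj H)
    let S := EtCoh.stalk (ζ ≫ c)
    let η := (EtShriek.extZeroAdj D.ι).unit
    haveI hA : IsIso (η.app H) := isIso_unit D.ι H
    haveI hB : IsIso (η.app B) := isIso_unit D.ι B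
    change IsIso (S.map ((EtShriek.restrAlong D.ι).map π))
    have e : S.map (η.app H) ≫ S.map ((EtShriek.restrAlong D.ι).map π) =
        S.map ((EtCoh.pullPushAdj c).unit.app H) ≫ S.map (η.app B) :=
      (S.map_comp _ _).symm.trans ((congrArg S.map n.symm).trans (S.map_comp _ _))
    have h2 : IsIso (S.map (η.app H)) := @Functor.map_isIso _ _ _ _ _ _ S _ hA
    have h3 : IsIso (S.map (η.app B)) := @Functor.map_isIso _ _ _ _ _ _ S _ hB
    have h4 := @IsIso.comp_isIso _ _ _ _ _ _ _ h1 h3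
    exact @IsIso.of_isIso_fac_left _ _ _ _ _ _ _ _ h2 h4 e
  refine ⟨π, hzero, { exact := shortComplex_exact_of_stalks _ fun Ω _ _ ξ => ?_, mono_f := inferInstanceAs (Mono (openMap F hVD)), epi_g := ?_ }⟩
  · refine (ShortComplex.ab_exact_iff _).2 fun x hx => ?_
    by_cases hV : ξ.base default ∈ V
    · exact (bijective_openMap F ξ hVD hV).2 x
    · by_cases hD : ξ.base default ∈ D
      · refine ⟨0, (map_zero _).trans ?_⟩
        exact ((ConcreteCategory.isIso_iff_bijective _).1 (hiso Ω ξ hD hV)).1 ((map_zero _).trans hx.symm)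
      · exact ⟨0, (map_zero _).trans (eq_zero_of_notMem F ξ hD x).symm⟩
  · refine epi_of_stalks _ fun Ω _ _ ξ y => ?_
    by_cases h : ξ.base default ∈ V ∨ ξ.base default ∉ D
    · exact ⟨0, @Subsingleton.elim _ (AddCommGrpCat.subsingleton_of_isZero (hQ Ω ξ h)) _ _⟩
    · rw [not_or, not_not] at h
      exact (((ConcreteCategory.isIso_iff_bijective _).1 (hiso Ω ξ h.2 h.1))).2 y

/-- The filtration. -/
theorem exists_filtration [CompactSpace X] [QuasiSeparatedSpace X] (hF : EtPBC.IsConstructible F) :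
    ∃ (n : ℕ) (E : Fin (n + 1) → EtCoh.Ab X) (ι : ∀ k : Fin n, E k.castSucc ⟶ E k.succ),
      IsZero (E 0) ∧ Nonempty (E (Fin.last n) ≅ F) ∧
      ∀ k : Fin n, ∃ (U W : Scheme.{u}) (j : U ⟶ X) (_ : IsOpenImmersion j) (c : W ⟶ U)
        (_ : IsClosedImmersion c) (G : EtCoh.Ab W)
        (π : E k.succ ⟶ (EtShriek.extZero j).obj ((EtCoh.push c).obj G)) (hz : ι k ≫ π = 0),
        IsConstructible (Set.range (c ≫ j)) ∧ EtCoh.IsFiniteLocallyConstant G ∧
        (ShortComplex.mk (ι k) π hz).ShortExact := by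
  obtain ⟨κ, _, T, g, himm, hcons, hcov, hflc⟩ := exists_pieces F hF
  obtain ⟨N, D, hD0, hDN, hD⟩ := exists_chain (fun i => Set.range (g i).base) hcons hcov
  refine ⟨N, fun k => openPart F (D k), fun k => openMap F (hD k).1, ?_, ?_, fun k => ?_⟩
  · refine (IsZero.iff_id_eq_zero _).2 (zero_of_stalks _ fun Ω _ _ ξ => ?_)
    ext p
    rw [eq_zero_of_notMem F ξ (by rw [hD0]; exact id) p, map_zero, map_zero]
  · haveI : IsIso (openIncl F (D (Fin.last N))) := isIso_of_stalks _ fun Ω _ _ ξ =>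
      bijective_stalk_openIncl F ξ (by rw [hDN]; trivial)
    exact ⟨asIso (openIncl F (D (Fin.last N)))⟩
  obtain ⟨hle, hc, hpiece⟩ := hD k
  let U : Scheme.{u} := (D k.succ : Scheme.{u})
  let j : U ⟶ X := (D k.succ).ι
  let Z : TopologicalSpace.Closeds U :=
    ⟨j.base ⁻¹' (D k.castSucc : Set X)ᶜ, (D k.castSucc).2.isClosed_compl.preimage j.continuous⟩
  let I := Scheme.IdealSheafData.vanishingIdeal Z
  haveI : IsReduced I.subscheme := GrothLib.RedSub.isReduced_subscheme_vanishingIdeal _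
  have hrange : Set.range I.subschemeι.base = j.base ⁻¹' (D k.castSucc : Set X)ᶜ := by
    rw [Scheme.IdealSheafData.range_subschemeι, Scheme.IdealSheafData.coe_support_vanishingIdeal]
    rfl
  have hr : Set.range (I.subschemeι ≫ j).base = (D k.succ : Set X) \ D k.castSucc := by
    rw [show Set.range (I.subschemeι ≫ j).base = j.base '' Set.range I.subschemeι.base from
      Set.range_comp j I.subschemeι, hrange, Set.image_preimage_eq_inter_range, Scheme.Opens.range_ι,
      Set.inter_comm]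
    rfl
  obtain ⟨π, hz, hex⟩ := exists_step F hle I.subschemeι hrange
  refine ⟨U, I.subscheme, j, inferInstance, I.subschemeι, inferInstance, _, π, hz, hr ▸ hc, ?_, hex⟩
  refine flc_of_iso (((EtCore.pullComp I.subschemeι j).app F) ≪≫ ((EtCoh.pull I.subschemeι).mapIso
    ((restrIsoPull j).app F).symm)) ?_
  rcases hpiece with hempty | ⟨i, hi⟩
  · refine ⟨PEmpty, fun i => i.elim, fun x => ?_, fun i => i.elim⟩
    exact absurd (hr.le ⟨x, rfl⟩) (hempty ▸ id)
  · haveI := himm i
    exact flc_pull_of_range_subset _ (g i) (hr ▸ hi) F (hflc i)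

end GrothLib.ConstrCpt
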