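import Groth.Agent.Lib.ConstrCpt.Compact
import Groth.Agent.Lib.ConstrCpt.ColimPres
import Groth.Agent.Lib.Specialize.Good

/-!
# Constructibility descends along surjective morphisms
-/

set_option autoImplicit false
set_option backward.isDefEq.respectTransparency.types false
universe u

open CategoryTheory CategoryTheory.Limits AlgebraicGeometry Opposite
open GrothLib.EtSite GrothLib.EtShriek

noncomputable section

namespace GrothLib.ConstrCpt

variable {X Y : Scheme.{u}}

/-- Being killed by an allowed integer, or vanishing, does not depend on the geometric point over a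
point. -/
theorem exists_fib_same {F : EtCoh.Ab Y} {Ω Ω₀ : Type u} [Field Ω] [IsSepClosed Ω] [Field Ω₀]
    [IsSepClosed Ω₀] (ξ : Spec (CommRingCat.of Ω) ⟶ Y) (ξ₀ : Spec (CommRingCat.of Ω₀) ⟶ Y)
    (h : ξ₀.base default = ξ.base default) (p : (EtCoh.stalk ξ).obj F) :
    ∃ (W : Y.Etale) (w : (Scheme.pointSmallEtale ξ).fiber.obj W)
      (w₀ : (Scheme.pointSmallEtale ξ₀).fiber.obj W) (z : EtCoh.sect F W),
      germ ξ F w z = p ∧ ∀ s : EtCoh.sect F W, germ ξ₀ F w₀ s = 0 → germ ξ F w s = 0 := by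
  obtain ⟨W, w, z, rfl⟩ := exists_germ ξ F p
  obtain ⟨w₀, hw₀⟩ := exists_fib ξ₀ (U := W) (Specialize.pointOf w)
    ((congrArg (fun k : Spec (CommRingCat.of Ω) ⟶ Y => k.base default) (Over.w w)).trans h.symm)
  refine ⟨W, w, w₀, z, rfl, fun s hs => Specialize.germ_eq_zero_of_specializes w₀ w ?_ s hs⟩
  exact specializes_of_eq hw₀.symm

theorem isZero_stalk_of_same {F : EtCoh.Ab Y} {Ω Ω₀ : Type u} [Field Ω] [IsSepClosed Ω] [Field Ω₀]
    [IsSepClosed Ω₀] (ξ : Spec (CommRingCat.of Ω) ⟶ Y) (ξ₀ : Spec (CommRingCat.of Ω₀) ⟶ Y)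
    (h : ξ₀.base default = ξ.base default) (h0 : IsZero ((EtCoh.stalk ξ₀).obj F)) :
    IsZero ((EtCoh.stalk ξ).obj F) := by
  haveI : Subsingleton ((EtCoh.stalk ξ).obj F) := subsingleton_of_forall_eq 0 fun p => by
    obtain ⟨W, w, w₀, z, rfl, hz⟩ := exists_fib_same ξ ξ₀ h p
    exact hz z ((AddCommGrpCat.subsingleton_of_isZero h0).elim _ _)
  exact AddCommGrpCat.isZero_of_subsingleton _

theorem exists_point_over (f : X ⟶ Y) [Surjective f] {Ω : Type u} [Field Ω] [IsSepClosed Ω]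
    (ξ : Spec (CommRingCat.of Ω) ⟶ Y) :
    ∃ (Ω₀ : Type u) (_ : Field Ω₀) (_ : IsSepClosed Ω₀) (ζ : Spec (CommRingCat.of Ω₀) ⟶ X),
      (ζ ≫ f).base default = ξ.base default := by
  obtain ⟨x, hx⟩ := (inferInstance : Surjective f).surj (ξ.base default)
  exact ⟨_, inferInstance, inferInstance, gpt x, (congrArg f.base (gpt_default x)).trans hx⟩

variable [CompactSpace X] [QuasiSeparatedSpace X] [CompactSpace Y] [QuasiSeparatedSpace Y]

/-- A sheaf with torsion stalks and constructible inverse image along a surjective morphism is a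
quotient of a constructible sheaf. -/
theorem exists_epi_of_pull (f : X ⟶ Y) [Surjective f] {K : EtCoh.Ab Y}
    (hT : Tors (fun m => 0 < m) K) (hK : EtPBC.IsConstructible ((EtCoh.pull f).obj K)) :
    ∃ (D : EtCoh.Ab Y) (p : D ⟶ K), EtPBC.IsConstructible D ∧ Epi p := by
  classical
  haveI : IsFiltered (Idx K) := inferInstance
  let Φ := EtCoh.pull f
  have hc : StalkColim (diag K ⋙ Φ) (Φ.mapCocone (coconeF K)) := fun Ω _ _ ζ => by
    have nat : ∀ {A B : EtCoh.Ab Y} (φ : A ⟶ B) (y : (EtCoh.stalk ζ).obj (Φ.obj A)),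
        (pullStalkIso ζ f).hom.app B ((EtCoh.stalk ζ).map (Φ.map φ) y) =
          (EtCoh.stalk (ζ ≫ f)).map φ ((pullStalkIso ζ f).hom.app A y) := fun {A B} φ y =>
      congrArg (fun g => g y) ((pullStalkIso ζ f).hom.naturality φ)
    have bij : ∀ A, Function.Bijective ((pullStalkIso ζ f).hom.app A) := fun A =>
      (ConcreteCategory.isIso_iff_bijective _).1 inferInstance
    obtain ⟨h1, h2⟩ := stalkColim_coconeF hT Ω (ζ ≫ f)
    refine ⟨fun x => ?_, fun T y hy => ?_⟩
    · obtain ⟨T, y, hy⟩ := h1 ((pullStalkIso ζ f).hom.app _ x)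
      obtain ⟨y', rfl⟩ := (bij _).2 y
      exact ⟨T, y', (bij _).1 ((nat ((coconeF K).ι.app T) y').trans hy)⟩
    · obtain ⟨l, φ, hl⟩ := h2 T ((pullStalkIso ζ f).hom.app _ y)
        ((nat ((coconeF K).ι.app T) y).symm.trans ((congrArg _ hy).trans (map_zero _)))
      exact ⟨l, φ, (bij _).1 ((nat ((diag K).map φ) y).trans (hl.trans (map_zero _).symm))⟩
  obtain ⟨T, s, hs⟩ := (cpt_of_constructible hK (diag K ⋙ Φ) (Φ.mapCocone (coconeF K)) hc).1 (𝟙 _)
  let p : (diag K).obj T ⟶ K := (coconeF K).ι.app T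
  refine ⟨_, p, isConstructible_diag T, ?_⟩
  haveI : IsSplitEpi (Φ.map p) := IsSplitEpi.mk' ⟨s, hs⟩
  refine epi_of_stalks _ fun Ω _ _ ξ => ?_
  obtain ⟨Ω₀, _, _, ζ, hζ⟩ := exists_point_over f ξ
  refine (isZero_stalk_cokernel_iff p ξ).1 (isZero_stalk_of_same ξ (ζ ≫ f) hζ
    ((isZero_stalk_cokernel_iff p (ζ ≫ f)).2 ?_))
  rw [← AddCommGrpCat.epi_iff_surjective]
  haveI : Epi ((Φ ⋙ EtCoh.stalk ζ).map p) := inferInstanceAs (Epi ((EtCoh.stalk ζ).map (Φ.map p)))
  exact ((MorphismProperty.epimorphisms AddCommGrpCat.{u + 1}).arrow_mk_iso_iff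
    (((Functor.mapArrowFunctor _ _).mapIso (pullStalkIso ζ f)).app (Arrow.mk p))).1
      (inferInstance : Epi ((Φ ⋙ EtCoh.stalk ζ).map p))

/-- Constructibility descends along surjective morphisms of quasi-compact quasi-separated schemes. -/
theorem isConstructible_of_pull (f : X ⟶ Y) [Surjective f] (F : EtCoh.Ab Y)
    (hF : EtPBC.IsConstructible ((EtCoh.pull f).obj F)) : EtPBC.IsConstructible F := by
  have hT : Tors (fun m => 0 < m) F := fun Ω _ _ ξ p => by
    obtain ⟨Ω₀, _, _, ζ, hζ⟩ := exists_point_over f ξ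
    obtain ⟨W, w, w₀, z, rfl, hz⟩ := exists_fib_same ξ (ζ ≫ f) hζ p
    haveI := Constructible.finite_stalk _ hF ζ
    haveI : Finite ((EtCoh.pull f ⋙ EtCoh.stalk ζ).obj F) :=
      (inferInstance : Finite ((EtCoh.stalk ζ).obj ((EtCoh.pull f).obj F)))
    haveI : Finite ((EtCoh.stalk (ζ ≫ f)).obj F) :=
      Finite.of_equiv _ (((pullStalkIso ζ f).app F).addCommGroupIsoToAddEquiv).toEquiv
    let q := germ (ζ ≫ f) F w₀ z
    refine ⟨addOrderOf q, (isOfFinAddOrder_of_finite q).addOrderOf_pos, ?_⟩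
    rw [← map_nsmul]
    refine hz _ ?_
    rw [map_nsmul]
    exact addOrderOf_nsmul_eq_zero q
  obtain ⟨D, p, hD, hp⟩ := exists_epi_of_pull f hT hF
  haveI := pull_preservesFiniteLimits f
  obtain ⟨D', q, hD', hq⟩ := exists_epi_of_pull f
    (tors_of_mono (kernel.ι p) (tors_of_constructible hD))
    (Constructible.isConstructible_openPart_separated.isConstructible_of_iso
      (PreservesKernel.iso (EtCoh.pull f) p).symm
      (Constructible.isConstructible_kernel_cokernel ((EtCoh.pull f).map p)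
        (Constructible.isConstructible_pull f D hD) hF).1)
  exact Constructible.isConstructible_openPart_separated.isConstructible_of_iso
    ((cokernelEpiComp q (kernel.ι p)) ≪≫ (colimit.isColimit _).coconePointUniqueUpToIso
      (Abelian.epiIsCokernelOfKernel _ (kernelIsKernel p)))
    (Constructible.isConstructible_kernel_cokernel (q ≫ kernel.ι p) hD' hD).2

theorem isConstructible_iff_pull (f : X ⟶ Y) [Surjective f] (F : EtCoh.Ab Y) :
    EtPBC.IsConstructible F ↔ EtPBC.IsConstructible ((EtCoh.pull f).obj F) :=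
  ⟨Constructible.isConstructible_pull f F, isConstructible_of_pull f F⟩

end GrothLib.ConstrCpt
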