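import Groth.Agent.Lib.ConstrCpt.Descent
import Mathlib.AlgebraicGeometry.Morphisms.FinitePresentation

/-!
# Constructibility descends along surjective morphisms locally of finite presentation
-/

set_option autoImplicit false
set_option backward.isDefEq.respectTransparency.types false
universe u

open CategoryTheory CategoryTheory.Limits AlgebraicGeometry Opposite Topology

noncomputable section

namespace GrothLib.ConstrCpt

variable {X Y : Scheme.{u}}

theorem isConstructible_iff_pull_lfp (f : X ⟶ Y) [Surjective f] [LocallyOfFinitePresentation f]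
    (F : EtCoh.Ab Y) :
    EtPBC.IsConstructible F ↔ EtPBC.IsConstructible ((EtCoh.pull f).obj F) := by
  refine ⟨Constructible.isConstructible_pull f F, fun hF => ?_⟩
  choose V hV hyV using fun y : Y => Constructible.affine_nhd (X := Y) isOpen_univ (Set.mem_univ y)
  refine Constructible.isConstructible_of_cover F V (top_le_iff.1 fun y _ =>
    TopologicalSpace.Opens.mem_iSup.2 ⟨y, (hyV y).1⟩) fun y₀ => ?_
  haveI : IsAffine (V y₀ : Scheme.{u}) := hV y₀
  let S : Scheme.{u} := (f ⁻¹ᵁ V y₀).toScheme
  let r : S ⟶ (V y₀ : Scheme.{u}) := f ∣_ V y₀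
  choose U hU hxU using fun x : S => Constructible.affine_nhd (X := S) isOpen_univ (Set.mem_univ x)
  haveI : ∀ x, IsAffine (U x : Scheme.{u}) := hU
  have hcons : ∀ x, IsConstructible (Set.range ((U x).ι ≫ r)) := fun x => by
    haveI : QuasiCompact ((U x).ι ≫ r) :=
      HasAffineProperty.iff_of_isAffine.mpr (inferInstanceAs (CompactSpace (U x : Scheme.{u})))
    rw [← Set.image_univ]
    exact ((U x).ι ≫ r).isConstructible_image IsConstructible.univ
  obtain ⟨t, ht⟩ := @IsCompact.elim_finite_subcover ↥(V y₀ : Scheme.{u}) (constructibleTopology _) Set.univ _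
    (GrothLib.Constr.isCompact_constructibleTopology_of_isClosed
      (@isClosed_univ ↥(V y₀ : Scheme.{u}) (constructibleTopology _)))
    (fun x => Set.range ((U x).ι ≫ r))
    (fun x => (GrothLib.Constr.isOpen_constructibleTopology_of_isConstructible (hcons x)).1)
    (fun y _ => by
      obtain ⟨x, rfl⟩ := (IsZariskiLocalAtTarget.restrict (P := @Surjective) (inferInstance : Surjective f) (V y₀)).surj y
      exact Set.mem_iUnion.2 ⟨x, ⟨x, (hxU x).1⟩, rfl⟩)
  haveI : Finite t := inferInstance
  let h : (∐ fun k : t => (U k.1 : Scheme.{u})) ⟶ S := Sigma.desc fun k : t => (U k.1).ι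
  haveI : Surjective (h ≫ r) := ⟨fun y => by
    obtain ⟨x, hx, z, hz⟩ := Set.mem_iUnion₂.1 (ht (Set.mem_univ y))
    refine ⟨(Sigma.ι (fun k : t => (U k.1 : Scheme.{u})) ⟨x, hx⟩).base z, ?_⟩
    change (Sigma.ι (fun k : t => (U k.1 : Scheme.{u})) ⟨x, hx⟩ ≫ h ≫ r).base z = y
    rw [Sigma.ι_desc_assoc]
    exact hz⟩
  haveI : IsAffine (∐ fun k : t => (U k.1 : Scheme.{u})) := inferInstance
  refine isConstructible_of_pull (h ≫ r) _ ?_
  have e : (h ≫ r) ≫ (V y₀).ι = (h ≫ (f ⁻¹ᵁ V y₀).ι) ≫ f := by
    rw [Category.assoc, Category.assoc]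
    exact congrArg (h ≫ ·) (morphismRestrict_ι f (V y₀))
  exact Constructible.isConstructible_openPart_separated.isConstructible_of_iso
    (((EtCore.pullComp (h ≫ (f ⁻¹ᵁ V y₀).ι) f).app F).symm ≪≫ (EtCore.pullCongr e.symm).app F ≪≫
      (EtCore.pullComp (h ≫ r) (V y₀).ι).app F)
    (Constructible.isConstructible_pull _ _ hF)

end GrothLib.ConstrCpt
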