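import Mathlib.Algebra.Homology.DerivedCategory.Ext.ExactSequences
import Mathlib.Algebra.Homology.DerivedCategory.Ext.EnoughInjectives
import Mathlib.CategoryTheory.Abelian.Basic

/-!
# The kernel of an epimorphism between injectives
-/

set_option autoImplicit false
universe w v u

open CategoryTheory CategoryTheory.Limits CategoryTheory.Abelian

namespace GrothLib.ConstrCpt

variable {C : Type u} [Category.{v} C] [Abelian C] [HasExt.{w} C]

/-- If `f : I ⟶ J` is an epimorphism of injectives through which every map from `Z` lifts, then its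
kernel has no higher `Ext` from `Z`. -/
theorem ext_kernel_eq_zero {I J : C} [Injective I] [Injective J] (f : I ⟶ J) [Epi f] (Z : C)
    (hlift : ∀ a : Z ⟶ J, ∃ b : Z ⟶ I, b ≫ f = a) {q : ℕ} (x : Ext.{w} Z (kernel f) (q + 1)) :
    x = 0 := by
  let S := ShortComplex.mk (kernel.ι f) f (kernel.condition f)
  haveI : Mono S.f := inferInstanceAs (Mono (kernel.ι f))
  haveI : Epi S.g := inferInstanceAs (Epi f)
  have hS : S.ShortExact := { exact := ShortComplex.exact_kernel f }
  obtain ⟨z, rfl⟩ := Ext.covariant_sequence_exact₁ Z hS x (Ext.eq_zero_of_injective (I := I) _) rfl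
  cases q with
  | zero =>
    obtain ⟨a, rfl⟩ := (Ext.mk₀_bijective Z J).2 z
    obtain ⟨b, rfl⟩ := hlift a
    rw [← Ext.mk₀_comp_mk₀, Ext.comp_assoc_of_second_deg_zero, hS.comp_extClass, Ext.comp_zero]
  | succ q =>
    have hz : z = 0 := Ext.eq_zero_of_injective (I := J) z
    rw [hz, Ext.zero_comp]

end GrothLib.ConstrCpt
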