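import Groth.Agent.Lib.ConstrCpt.Descent

/-!
# Constructibility descends along finite jointly surjective families of affine schemes
-/

set_option autoImplicit false
set_option backward.isDefEq.respectTransparency.types false
universe u

open CategoryTheory CategoryTheory.Limits AlgebraicGeometry Opposite Topology

noncomputable section

namespace GrothLib.ConstrCpt

variable {Y : Scheme.{u}} [CompactSpace Y] [QuasiSeparatedSpace Y]

theorem isConstructible_of_affine_family {ι : Type u} [Finite ι] (S : ι → Scheme.{u})
    [∀ k, IsAffine (S k)] (h : ∀ k, S k ⟶ Y) (hcov : ∀ y : Y, ∃ k, y ∈ Set.range (h k).base)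
    (F : EtCoh.Ab Y) (hF : ∀ k, EtPBC.IsConstructible ((EtCoh.pull (h k)).obj F)) :
    EtPBC.IsConstructible F := by
  haveI : Surjective (Sigma.desc h) := ⟨fun y => by
    obtain ⟨k, z, hz⟩ := hcov y
    exact ⟨(Sigma.ι S k).base z, (congrArg (fun m => m.base z) (Sigma.ι_desc h k)).trans hz⟩⟩
  refine isConstructible_of_pull (Sigma.desc h) F (Constructible.isConstructible_of_cover _
    (fun k => (Sigma.ι S k).opensRange) (top_le_iff.1 fun z _ => ?_) fun k => ?_)
  · obtain ⟨k, x, hx⟩ := (sigmaOpenCover S).exists_eq z
    exact TopologicalSpace.Opens.mem_iSup.2 ⟨k, x, hx⟩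
  · let e := (Sigma.ι S k).isoOpensRange
    have he : (Sigma.ι S k).opensRange.ι ≫ Sigma.desc h = e.inv ≫ h k := by
      rw [← Scheme.Hom.isoOpensRange_inv_comp, Category.assoc, Sigma.ι_desc]
    exact Constructible.isConstructible_openPart_separated.isConstructible_of_iso
      (((EtCore.pullComp e.inv (h k)).app F).symm ≪≫ (EtCore.pullCongr he.symm).app F ≪≫
        (EtCore.pullComp (Sigma.ι S k).opensRange.ι (Sigma.desc h)).app F)
      (Constructible.isConstructible_pull _ _ (hF k))

end GrothLib.ConstrCpt
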