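import Groth.Agent.Lib.Constructible.Chain
import Groth.Agent.Lib.Constructible.ExtZeroConst
import Groth.Agent.Lib.EtShriek.Colim

/-!
# Generators `j_! ℤ/m` of torsion etale sheaves

Morphisms out of `j_! ℤ/m` are `m`-torsion sections; every stalk element of a torsion sheaf is hit
by such a morphism with affine source; finite sums of generators are constructible.
-/

set_option autoImplicit false
set_option backward.isDefEq.respectTransparency.types false
universe u

open CategoryTheory CategoryTheory.Limits AlgebraicGeometry Opposite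
open GrothLib.EtSite

noncomputable section

namespace GrothLib.ConstrCpt

variable {X : Scheme.{u}}

/-- Morphisms out of `j_! M` are homomorphisms of `M` into the sections. -/
def adj (V : X.Etale) :=
  (constantSheafAdj (X.smallEtaleTopology.over V) AddCommGrpCat.{u + 1} Over.mkIdTerminal).comp
    (EtPBC.extZeroAdj V)

/-- The universal section of `j_! ℤ/m`. -/
def one (V : X.Etale) (m : ℕ) : EtCoh.sect (EtPBC.extZeroConst V (ZMod m)) V :=
  ((adj V).unit.app (AddCommGrpCat.of (ULift.{u + 1} (ZMod m)))).hom ⟨1⟩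

theorem homEquiv_one {V : X.Etale} {m : ℕ} {G : EtCoh.Ab X}
    (φ : EtPBC.extZeroConst V (ZMod m) ⟶ G) :
    (((adj V).homEquiv _ _) φ).hom (⟨1⟩ : ULift.{u + 1} (ZMod m)) = φ.hom.app (op V) (one V m) := by
  rw [Adjunction.homEquiv_unit]
  rfl

theorem nsmul_one (V : X.Etale) (m : ℕ) : m • one V m = 0 := by
  unfold one
  refine (map_nsmul ((adj V).unit.app (AddCommGrpCat.of (ULift.{u + 1} (ZMod m)))).hom m
    (⟨1⟩ : ULift.{u + 1} (ZMod m))).symm.trans ?_
  have h : m • (⟨1⟩ : ULift.{u + 1} (ZMod m)) = 0 := ULift.ext (m • (⟨1⟩ : ULift.{u + 1} (ZMod m))) 0 (by simp)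
  exact (congrArg _ h).trans (map_zero _)

theorem zhom_ext {V : X.Etale} {m : ℕ} {G : EtCoh.Ab X} {φ ψ : EtPBC.extZeroConst V (ZMod m) ⟶ G}
    (h : φ.hom.app (op V) (one V m) = ψ.hom.app (op V) (one V m)) : φ = ψ := by
  apply ((adj V).homEquiv _ _).injective
  rw [← homEquiv_one, ← homEquiv_one] at h
  refine AddCommGrpCat.ext fun x => ?_
  obtain ⟨k, hk⟩ := ZMod.intCast_surjective x.down
  have hx : x = k • (⟨1⟩ : ULift.{u + 1} (ZMod m)) := ULift.ext x (k • (⟨1⟩ : ULift.{u + 1} (ZMod m))) (by simp [hk])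
  rw [hx]
  exact (map_zsmul _ k _).trans ((congrArg (k • ·) h).trans (map_zsmul _ k _).symm)

theorem exists_zhom {V : X.Etale} {m : ℕ} {G : EtCoh.Ab X} (s : EtCoh.sect G V) (hs : m • s = 0) :
    ∃ φ : EtPBC.extZeroConst V (ZMod m) ⟶ G, φ.hom.app (op V) (one V m) = s := by
  let f : ZMod m →+ EtCoh.sect G V :=
    ZMod.lift m ⟨zmultiplesHom _ s, by simpa [zmultiplesHom_apply] using hs⟩
  let h : AddCommGrpCat.of (ULift.{u + 1} (ZMod m)) ⟶ G.obj.obj (op V) :=
    AddCommGrpCat.ofHom (f.comp AddEquiv.ulift.toAddMonoidHom)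
  refine ⟨((adj V).homEquiv _ _).symm h, ?_⟩
  rw [← homEquiv_one, Equiv.apply_symm_apply]
  change f 1 = s
  have := ZMod.lift_coe (n := m) ⟨zmultiplesHom _ s, by simpa [zmultiplesHom_apply] using hs⟩ 1
  simpa [f] using this

theorem nsmul_id_extZeroConst (V : X.Etale) (m : ℕ) : m • 𝟙 (EtPBC.extZeroConst V (ZMod m)) = 0 :=
  zhom_ext ((nsmul_one V m).trans rfl)

/-- A generator of `F`: a morphism from `j_! ℤ/m` with affine source. -/
structure Gen (P : ℕ → Prop) (F : EtCoh.Ab X) : Type (u + 1) where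
  V : X.Etale
  m : ℕ
  hm : P m
  affine : IsAffine V.left
  φ : EtPBC.extZeroConst V (ZMod m) ⟶ F

namespace Gen

variable {P : ℕ → Prop} {F : EtCoh.Ab X}

/-- The source of a generator. -/
abbrev obj (g : Gen P F) : EtCoh.Ab X := EtPBC.extZeroConst g.V (ZMod g.m)

end Gen

variable {P : ℕ → Prop} {F : EtCoh.Ab X} {ι ι' : Type*} [Finite ι] [Finite ι']

/-- The sum of the sources of a finite family of generators. -/
abbrev src (g : ι → Gen P F) : EtCoh.Ab X := ⨁ fun i => (g i).obj

/-- The map defined by a finite family of generators. -/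
abbrev total (g : ι → Gen P F) : src g ⟶ F := biproduct.desc fun i => (g i).φ

/-- Functoriality in the family. -/
def incl (g : ι' → Gen P F) (e : ι → ι') : src (fun i => g (e i)) ⟶ src g :=
  biproduct.desc fun i => biproduct.ι (fun j => (g j).obj) (e i)

theorem ι_incl (g : ι' → Gen P F) (e : ι → ι') (i : ι) :
    biproduct.ι (fun i => (g (e i)).obj) i ≫ incl g e = biproduct.ι (fun j => (g j).obj) (e i) :=
  biproduct.ι_desc _ _

theorem incl_total (g : ι' → Gen P F) (e : ι → ι') :
    incl g e ≫ total g = total fun i => g (e i) := biproduct.hom_ext' _ _ fun i => by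
  rw [← Category.assoc, ι_incl, biproduct.ι_desc, biproduct.ι_desc]

theorem nsmul_id_src {n : ℕ} (g : ι → Gen (fun m => m = n) F) : n • 𝟙 (src g) = 0 :=
  biproduct.hom_ext' _ _ fun i => by
    rw [Preadditive.comp_nsmul, Category.comp_id, comp_zero]
    have h := congrArg (· ≫ biproduct.ι (fun i => (g i).obj) i)
      (nsmul_id_extZeroConst (g i).V (g i).m)
    simpa [Preadditive.nsmul_comp, (g i).hm] using h

/-- Constructibility of finite sums of constructible sheaves. -/
theorem isConstructible_biproduct [CompactSpace X] [QuasiSeparatedSpace X] :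
    ∀ {a : ℕ} (G : Fin a → EtCoh.Ab X), (∀ i, EtPBC.IsConstructible (G i)) →
      EtPBC.IsConstructible (⨁ G) := by
  intro a
  induction a with
  | zero =>
    intro G _
    have h : EtPBC.IsConstructible (EtPBC.extZeroConst (Scheme.Etale.mk (𝟙 X)) (ZMod 2)) :=
      Constructible.isConstructible_extZeroConst (𝟙 X) (ZMod 2)
    have h0 := (Constructible.isConstructible_kernel_cokernel (𝟙 _) h h).2
    have z1 : IsZero (⨁ G) := (IsZero.iff_id_eq_zero _).2 (biproduct.hom_ext _ _ fun j => j.elim0)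
    have z2 := isZero_cokernel_of_epi (𝟙 (EtPBC.extZeroConst (Scheme.Etale.mk (𝟙 X)) (ZMod 2)))
    exact Constructible.isConstructible_openPart_separated.isConstructible_of_iso
      (z2.iso z1) h0
  | succ a ih =>
    intro G hG
    let e : G 0 ⊞ (⨁ fun i : Fin a => G i.succ) ≅ ⨁ G :=
      { hom := biproduct.lift (Fin.cases biprod.fst fun i => biprod.snd ≫ biproduct.π _ i)
        inv := biprod.lift (biproduct.π G 0) (biproduct.lift fun i => biproduct.π G i.succ)
        hom_inv_id := biprod.hom_ext _ _ (by simp) (biproduct.hom_ext _ _ fun i => by simp)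
        inv_hom_id := biproduct.hom_ext _ _ fun i => by
          induction i using Fin.cases <;> simp }
    exact Constructible.isConstructible_openPart_separated.isConstructible_of_iso e
      (Constructible.isConstructible_biprod (hG 0) (ih _ fun i => hG i.succ))

theorem isConstructible_obj [CompactSpace X] [QuasiSeparatedSpace X] (hP : ∀ m, P m → 0 < m)
    (g : Gen P F) : EtPBC.IsConstructible g.obj := by
  haveI : Etale g.V.hom := g.V.prop
  haveI := g.affine
  haveI : NeZero g.m := ⟨(hP _ g.hm).ne'⟩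
  exact @Constructible.isConstructible_extZeroConst g.V.left X g.V.hom _ _ _
    (inferInstance : CompactSpace g.V.left) (inferInstance : QuasiSeparatedSpace g.V.left)
    (ZMod g.m) _ _

theorem isConstructible_src [CompactSpace X] [QuasiSeparatedSpace X] (hP : ∀ m, P m → 0 < m)
    (g : ι → Gen P F) : EtPBC.IsConstructible (src g) := by
  let e := Finite.equivFin ι
  exact Constructible.isConstructible_openPart_separated.isConstructible_of_iso
    (biproduct.whiskerEquiv (f := fun k => (g (e.symm k)).obj) (g := fun i => (g i).obj) e.symm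
      fun k => Iso.refl _)
    (isConstructible_biproduct (fun k => (g (e.symm k)).obj) fun k => isConstructible_obj hP _)

/-- All stalk elements are killed by an allowed integer. -/
def Tors (P : ℕ → Prop) (F : EtCoh.Ab X) : Prop :=
  ∀ (Ω : Type u) [Field Ω] [IsSepClosed Ω] (ξ : Spec (CommRingCat.of Ω) ⟶ X)
    (p : (EtCoh.stalk ξ).obj F), ∃ m, P m ∧ m • p = 0

/-- Every stalk element of a torsion sheaf comes from a generator. -/
theorem exists_hit (hF : Tors P F) {Ω : Type u} [Field Ω] [IsSepClosed Ω]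
    (ξ : Spec (CommRingCat.of Ω) ⟶ X) (p : (EtCoh.stalk ξ).obj F) :
    ∃ g : Gen P F, p ∈ Set.range ((EtCoh.stalk ξ).map g.φ) := by
  obtain ⟨m, hm, hp⟩ := hF Ω ξ p
  obtain ⟨U, t, s, rfl⟩ := exists_germ ξ F p
  rw [← map_nsmul, ← map_zero (germ ξ F t).hom] at hp
  obtain ⟨W, g, w, hw, hg⟩ := (germ_eq_iff ξ F t _ _).1 hp
  obtain ⟨A, t', hA, ht'⟩ := GrothLib.EtShriek.exists_affine_germ ξ w
  have hs : m • F.obj.map (GrothLib.EtSite.opensHom W A ≫ g).op s = 0 := by
    rw [← map_nsmul, op_comp, Functor.map_comp, ConcreteCategory.comp_apply, hg, map_zero, map_zero]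
  obtain ⟨φ, hφ⟩ := exists_zhom _ hs
  refine ⟨⟨_, m, hm, hA, φ⟩, germ ξ _ t' (one _ m), ?_⟩
  refine (stalk_map_germ ξ φ t' _).trans ((congrArg (germ ξ F t') hφ).trans ?_)
  rw [germ_map, Functor.map_comp, ConcreteCategory.comp_apply, ht', hw]

theorem tors_of_finite_stalks
    (h : ∀ (Ω : Type u) [Field Ω] [IsSepClosed Ω] (ξ : Spec (CommRingCat.of Ω) ⟶ X),
      Finite ((EtCoh.stalk ξ).obj F)) : Tors (fun m => 0 < m) F := fun Ω _ _ ξ p => by
  haveI := h Ω ξ
  exact ⟨addOrderOf p, (isOfFinAddOrder_of_finite p).addOrderOf_pos, addOrderOf_nsmul_eq_zero p⟩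

theorem tors_of_constructible (hF : EtPBC.IsConstructible F) : Tors (fun m => 0 < m) F :=
  tors_of_finite_stalks fun _ _ _ ξ => Constructible.finite_stalk F hF ξ

theorem tors_of_killed {n : ℕ} (hF : EtCoh.KilledBy n F) : Tors (fun m => m = n) F :=
  fun Ω _ _ ξ p => by
    obtain ⟨U, t, s, rfl⟩ := exists_germ ξ F p
    exact ⟨n, rfl, (map_nsmul (germ ξ F t).hom n s).symm.trans
      ((congrArg (germ ξ F t) (hF U s)).trans (map_zero _))⟩

theorem tors_of_isTorsion (hF : EtCoh.IsTorsion F) : Tors (fun m => 0 < m) F :=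
  fun Ω _ _ ξ p => by
    obtain ⟨U, t, s, rfl⟩ := exists_germ ξ F p
    obtain ⟨V, g, ⟨v, hv⟩, hg⟩ := hF U s (t.left.base (default : Spec (CommRingCat.of Ω)))
    obtain ⟨t', ht', -⟩ := GrothLib.EtBasicB.exists_fib_lift ξ g t v hv
    obtain ⟨k, hk, hk0⟩ := isOfFinAddOrder_iff_nsmul_eq_zero.1 hg
    refine ⟨k, hk, ?_⟩
    rw [← ht', ← germ_map, ← map_nsmul, hk0, map_zero]

theorem tors_of_mono {G : EtCoh.Ab X} (i : G ⟶ F) [Mono i] (hF : Tors P F) : Tors P G :=
  fun Ω _ _ ξ p => by
    obtain ⟨m, hm, h⟩ := hF Ω ξ ((EtCoh.stalk ξ).map i p)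
    refine ⟨m, hm, (AddCommGrpCat.mono_iff_injective ((EtCoh.stalk ξ).map i)).1 inferInstance ?_⟩
    rw [map_nsmul, h, map_zero]

end GrothLib.ConstrCpt
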