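import Groth.Agent.Lib.ConstrCpt.Presentation

/-!
# Presentations of constructible sheaves killed by an integer
-/

set_option autoImplicit false
set_option backward.isDefEq.respectTransparency.types false
universe u

open CategoryTheory CategoryTheory.Limits AlgebraicGeometry Opposite
open GrothLib.EtSite

noncomputable section

namespace GrothLib.ConstrCpt

variable {X : Scheme.{u}}

theorem nsmul_app {F G : EtCoh.Ab X} (f : F ⟶ G) (n : ℕ) (U : X.Etale) (s : EtCoh.sect F U) :
    (n • f).hom.app (op U) s = n • f.hom.app (op U) s := rfl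

theorem killedBy_of_nsmul_id {F : EtCoh.Ab X} {n : ℕ} (h : n • 𝟙 F = 0) : EtCoh.KilledBy n F :=
  fun U s => (nsmul_app (𝟙 F) n U s).symm.trans
    (congrArg (fun f : F ⟶ F => f.hom.app (op U) s) h)

theorem tors_kernel_total {n : ℕ} {F : EtCoh.Ab X} {a : ℕ} (g : Fin a → Gen (fun m => m = n) F) :
    Tors (fun m => m = n) (kernel (total g)) :=
  tors_of_mono (kernel.ι (total g)) (tors_of_killed (killedBy_of_nsmul_id (nsmul_id_src g)))

/-- The source of a generator of exponent `n`. -/
def objIso {n : ℕ} {F : EtCoh.Ab X} : ∀ g : Gen (fun m => m = n) F,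
    g.obj ≅ EtPBC.extZeroConst g.V (ZMod n) := fun g =>
  eqToIso (by obtain ⟨V, m, hm, h, φ⟩ := g; change m = n at hm; subst hm; rfl)

theorem exists_killed_presentation [CompactSpace X] [QuasiSeparatedSpace X] {n : ℕ} (hn : 0 < n)
    {F : EtCoh.Ab X} (hF : EtPBC.IsConstructible F) (hFn : EtCoh.KilledBy n F) :
    ∃ (a b : ℕ) (V : Fin a → X.Etale) (U : Fin b → X.Etale) (_ : ∀ j, IsAffine (V j).left)
      (_ : ∀ i, IsAffine (U i).left)
      (φ : (⨁ fun j => EtPBC.extZeroConst (V j) (ZMod n)) ⟶ ⨁ fun i => EtPBC.extZeroConst (U i) (ZMod n)),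
      Nonempty (F ≅ cokernel φ) := by
  obtain ⟨a, b, g, h, ⟨e⟩⟩ := exists_presentation (P := fun m => m = n) (fun m hm => hm ▸ hn) hF
    (tors_of_killed hFn) fun a g => tors_kernel_total g
  let A := biproduct.mapIso fun j => objIso (h j)
  let B := biproduct.mapIso fun i => objIso (g i)
  exact ⟨b, a, fun j => (h j).V, fun i => (g i).V, fun j => (h j).affine, fun i => (g i).affine,
    A.inv ≫ (total h ≫ kernel.ι (total g)) ≫ B.hom,
    ⟨e ≪≫ cokernel.mapIso _ _ A B (by simp)⟩⟩

theorem constructible_iff_cokernel [CompactSpace X] [QuasiSeparatedSpace X] (F : EtCoh.Ab X) :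
    EtPBC.IsConstructible F ↔
      ∃ (a b : ℕ) (U : Fin a → X.Etale) (V : Fin b → X.Etale) (n : Fin a → ℕ) (m : Fin b → ℕ),
        (∀ i, 0 < n i ∧ IsAffine (U i).left) ∧ (∀ j, 0 < m j ∧ IsAffine (V j).left) ∧
        ∃ φ : (⨁ fun j => EtPBC.extZeroConst (V j) (ZMod (m j))) ⟶ (⨁ fun i => EtPBC.extZeroConst (U i) (ZMod (n i))),
          Nonempty (F ≅ cokernel φ) := by
  constructor
  · intro hF
    obtain ⟨a, b, g, h, e⟩ := exists_presentation (P := fun m => 0 < m) (fun _ h => h) hF
      (tors_of_constructible hF) fun a g =>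
        tors_of_mono (kernel.ι (total g)) (tors_of_constructible (isConstructible_src (fun _ h => h) g))
    exact ⟨a, b, fun i => (g i).V, fun j => (h j).V, fun i => (g i).m, fun j => (h j).m,
      fun i => ⟨(g i).hm, (g i).affine⟩, fun j => ⟨(h j).hm, (h j).affine⟩,
      total h ≫ kernel.ι (total g), e⟩
  · rintro ⟨a, b, U, V, n, m, hU, hV, φ, ⟨e⟩⟩
    let gU : Fin a → Gen (fun m => 0 < m) F := fun i => ⟨U i, n i, (hU i).1, (hU i).2, 0⟩
    let gV : Fin b → Gen (fun m => 0 < m) F := fun j => ⟨V j, m j, (hV j).1, (hV j).2, 0⟩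
    exact Constructible.isConstructible_openPart_separated.isConstructible_of_iso e.symm
      (Constructible.isConstructible_kernel_cokernel φ (isConstructible_src (fun _ h => h) gV)
        (isConstructible_src (fun _ h => h) gU)).2

end GrothLib.ConstrCpt
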