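import Groth.Agent.Lib.ConstrCpt.Gen
import Groth.Agent.Lib.Constructible.Noetherian
import Groth.Agent.Lib.Constructible.Chain

/-!
# Noetherian torsion sheaves on Noetherian schemes are constructible
-/

set_option autoImplicit false
set_option backward.isDefEq.respectTransparency.types false
universe u

open CategoryTheory CategoryTheory.Limits AlgebraicGeometry Opposite
open GrothLib.EtSite

noncomputable section

namespace GrothLib.ConstrCpt

variable {X : Scheme.{u}} [IsNoetherian X]

theorem isConstructible_of_isNoetherianObject (F : EtCoh.Ab X) (hF : EtCoh.IsTorsion F)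
    (hN : IsNoetherianObject F) : EtPBC.IsConstructible F := by
  haveI := hN
  let S : Set (Subobject F) :=
    {P | ∃ (G : EtCoh.Ab X) (ψ : G ⟶ F), EtPBC.IsConstructible G ∧ imageSubobject ψ = P}
  have h0 : S.Nonempty := ⟨_, _, total (fun i : Fin 0 => (i.elim0 : Gen (fun m => 0 < m) F)),
    isConstructible_src (fun _ h => h) _, rfl⟩
  obtain ⟨P, ⟨G, ψ, hG, rfl⟩, hmax⟩ := wellFounded_gt.has_min S h0
  suffices h : Epi ψ from Constructible.isConstructible_quot ψ hG
  refine epi_of_stalks _ fun Ω _ _ ξ p => ?_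
  obtain ⟨g, q, hq⟩ := exists_hit (tors_of_isTorsion hF) ξ p
  let ψ' : g.obj ⊞ G ⟶ F := biprod.desc g.φ ψ
  have hle : imageSubobject ψ ≤ imageSubobject ψ' := by
    rw [show ψ = biprod.inr ≫ ψ' from (biprod.inr_desc _ _).symm]
    exact imageSubobject_comp_le _ _
  have heq : imageSubobject ψ' = imageSubobject ψ := (hle.eq_or_lt.resolve_right
    (hmax (imageSubobject ψ')
      ⟨_, ψ', Constructible.isConstructible_biprod (isConstructible_obj (fun _ h => h) g) hG, rfl⟩)).symm
  have hg : imageSubobject g.φ ≤ imageSubobject ψ := by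
    refine le_trans ?_ heq.le
    rw [show g.φ = biprod.inl ≫ ψ' from (biprod.inl_desc _ _).symm]
    exact imageSubobject_comp_le _ _
  have hpre : (factorThruImageSubobject g.φ ≫ Subobject.ofLE _ _ hg) ≫ (imageSubobject ψ).arrow = g.φ := by
    rw [Category.assoc, Subobject.ofLE_arrow, imageSubobject_arrow_comp]
  obtain ⟨r, hr⟩ := (AddCommGrpCat.epi_iff_surjective
    ((EtCoh.stalk ξ).map (factorThruImageSubobject ψ))).1 inferInstance
    ((EtCoh.stalk ξ).map (factorThruImageSubobject g.φ ≫ Subobject.ofLE _ _ hg) q)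
  refine ⟨r, ?_⟩
  conv_lhs => rw [← imageSubobject_arrow_comp ψ]
  rw [Functor.map_comp, ConcreteCategory.comp_apply, hr, ← ConcreteCategory.comp_apply,
    ← Functor.map_comp, hpre, hq]

theorem isConstructible_iff_isNoetherianObject (F : EtCoh.Ab X) (hF : EtCoh.IsTorsion F) :
    EtPBC.IsConstructible F ↔ IsNoetherianObject F :=
  ⟨Constructible.isNoetherianObject F, isConstructible_of_isNoetherianObject F hF⟩

end GrothLib.ConstrCpt
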