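import Groth.Agent.Lib.ExtZero.Stalk
import Mathlib.AlgebraicGeometry.Morphisms.Finite
import Mathlib.LinearAlgebra.FreeModule.Finite.Matrix
import Mathlib.RingTheory.TensorProduct.Finite

/-!
# Geometric fibres of finite morphisms are bounded
-/

set_option autoImplicit false
set_option backward.isDefEq.respectTransparency.types false
universe u

open CategoryTheory CategoryTheory.Limits AlgebraicGeometry Opposite TensorProduct

noncomputable section

namespace GrothLib.ConstrCpt

theorem exists_bound_algHom (R A : Type u) [CommRing R] [CommRing A] [Algebra R A] [Module.Finite R A] :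
    ∃ d : ℕ, ∀ (K : Type u) [Field K] [Algebra R K],
      Finite (A →ₐ[R] K) ∧ Nat.card (A →ₐ[R] K) ≤ d := by
  classical
  obtain ⟨s, hs⟩ := (Module.Finite.fg_top (R := R) (M := A))
  refine ⟨s.card, fun K _ _ => ?_⟩
  let e : (A →ₐ[R] K) → (K ⊗[R] A →ₐ[K] K) := fun φ =>
    Algebra.TensorProduct.lift (Algebra.ofId K K) φ fun _ _ => Commute.all _ _
  have he : Function.Injective e := fun φ ψ h => AlgHom.ext fun a => by
    simpa [e] using congrArg (fun g => g (1 ⊗ₜ[R] a)) h
  haveI : Finite (K ⊗[R] A →ₐ[K] K) := inferInstance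
  refine ⟨Finite.of_injective e he, (Nat.card_le_card_of_injective e he).trans
    ((card_algHom_le_finrank K (K ⊗[R] A) K).trans ?_)⟩
  have hone : ∀ a : A, (1 : K) ⊗ₜ[R] a ∈
      Submodule.span K ((fun a => (1 : K) ⊗ₜ[R] a) '' (s : Set A)) := fun a => by
    have ha : a ∈ Submodule.span R (s : Set A) := hs.ge trivial
    induction ha using Submodule.span_induction with
    | mem x hx => exact Submodule.subset_span ⟨x, hx, rfl⟩
    | zero => simp
    | add x y _ _ hx hy => rw [TensorProduct.tmul_add]; exact add_mem hx hy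
    | smul r x _ hx =>
      rw [TensorProduct.tmul_smul, ← algebraMap_smul K r]
      exact Submodule.smul_mem _ _ hx
  have hspan : Submodule.span K ((fun a => (1 : K) ⊗ₜ[R] a) '' (s : Set A)) = ⊤ := by
    rw [← top_le_iff]
    intro z _
    induction z using TensorProduct.induction_on with
    | zero => exact zero_mem _
    | add x y hx hy => exact add_mem (hx trivial) (hy trivial)
    | tmul k a =>
      rw [show k ⊗ₜ[R] a = k • ((1 : K) ⊗ₜ[R] a) by simp [TensorProduct.smul_tmul']]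
      exact Submodule.smul_mem _ _ (hone a)
  calc Module.finrank K (K ⊗[R] A) = Module.finrank K (⊤ : Submodule K (K ⊗[R] A)) := (finrank_top _ _).symm
    _ ≤ (s.image fun a => (1 : K) ⊗ₜ[R] a).card := by
      rw [← hspan, ← Finset.coe_image]
      exact finrank_span_finset_le_card _
    _ ≤ s.card := Finset.card_image_le

/-- The geometric fibres of a finite morphism to a quasi-compact scheme are bounded. -/
theorem exists_bound_pts {X Y : Scheme.{u}} (f : X ⟶ Y) [IsFinite f] [CompactSpace Y] :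
    ∃ n : ℕ, ∀ (Ω : Type u) [Field Ω] [IsSepClosed Ω] (η : Spec (CommRingCat.of Ω) ⟶ Y),
      Finite (GrothLib.ExtZero.Pts f η) ∧ Nat.card (GrothLib.ExtZero.Pts f η) ≤ n := by
  classical
  choose V hV hyV using fun y : Y => exists_isAffineOpen_mem_and_subset (U := ⊤) (x := y) trivial
  have hb : ∀ y : Y, ∃ d : ℕ, ∀ (Ω : Type u) [Field Ω] [IsSepClosed Ω] (η : Spec (CommRingCat.of Ω) ⟶ Y),
      η.base default ∈ V y → Finite (GrothLib.ExtZero.Pts f η) ∧ Nat.card (GrothLib.ExtZero.Pts f η) ≤ d := by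
    intro y
    haveI : IsAffine (V y : Scheme.{u}) := hV y
    haveI : IsAffine (f ⁻¹ᵁ V y).toScheme := (hV y).preimage f
    let r : (f ⁻¹ᵁ V y).toScheme ⟶ (V y : Scheme.{u}) := f ∣_ V y
    haveI : IsFinite r := IsZariskiLocalAtTarget.restrict (P := @IsFinite) ‹_› _
    algebraize [r.appTop.hom]
    haveI : Module.Finite Γ((V y : Scheme.{u}), ⊤) Γ((f ⁻¹ᵁ V y).toScheme, ⊤) := r.finite_appTop
    obtain ⟨d, hd⟩ := exists_bound_algHom Γ((V y : Scheme.{u}), ⊤) Γ((f ⁻¹ᵁ V y).toScheme, ⊤)
    refine ⟨d, fun Ω _ _ η hη => ?_⟩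
    let η' : Spec (CommRingCat.of Ω) ⟶ (V y : Scheme.{u}) := IsOpenImmersion.lift (V y).ι η (by
      rintro _ ⟨q, rfl⟩
      rw [Scheme.Opens.range_ι, Subsingleton.elim q default]
      exact hη)
    let ev := (η'.appTop ≫ (Scheme.ΓSpecIso (CommRingCat.of Ω)).hom)
    letI : Algebra Γ((V y : Scheme.{u}), ⊤) Ω := ev.hom.toAlgebra
    obtain ⟨hfin, hcard⟩ := hd Ω
    have hp : ∀ p : GrothLib.ExtZero.Pts f η, Set.range p.1.base ⊆ Set.range (f ⁻¹ᵁ V y).ι.base := by
      rintro p _ ⟨q, rfl⟩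
      rw [Scheme.Opens.range_ι, Subsingleton.elim q default]
      show f.base (p.1.base default) ∈ V y
      rw [show f.base (p.1.base default) = (p.1 ≫ f).base default from rfl, p.2]
      exact hη
    let l : GrothLib.ExtZero.Pts f η → (Spec (CommRingCat.of Ω) ⟶ (f ⁻¹ᵁ V y).toScheme) := fun p =>
      IsOpenImmersion.lift (f ⁻¹ᵁ V y).ι p.1 (hp p)
    have hl : ∀ p, l p ≫ (f ⁻¹ᵁ V y).ι = p.1 := fun p => IsOpenImmersion.lift_fac _ _ _
    have hlr : ∀ p, l p ≫ r = η' := fun p => by
      rw [← cancel_mono (V y).ι, Category.assoc, morphismRestrict_ι, ← Category.assoc, hl, p.2,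
        IsOpenImmersion.lift_fac]
    let e : GrothLib.ExtZero.Pts f η →
        (Γ((f ⁻¹ᵁ V y).toScheme, ⊤) →ₐ[Γ((V y : Scheme.{u}), ⊤)] Ω) := fun p =>
      { toRingHom := ((l p).appTop ≫ (Scheme.ΓSpecIso (CommRingCat.of Ω)).hom).hom
        commutes' := fun a => by
          have h := congrArg (fun m => (m.appTop ≫ (Scheme.ΓSpecIso (CommRingCat.of Ω)).hom) a) (hlr p)
          simpa [RingHom.algebraMap_toAlgebra, ev] using h }
    have he : Function.Injective e := fun p q h => Subtype.ext (by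
      rw [← hl p, ← hl q]
      refine congrArg (· ≫ (f ⁻¹ᵁ V y).ι) (ext_of_isAffine ?_)
      have h' : ((l p).appTop ≫ (Scheme.ΓSpecIso (CommRingCat.of Ω)).hom) =
          ((l q).appTop ≫ (Scheme.ΓSpecIso (CommRingCat.of Ω)).hom) :=
        CommRingCat.hom_ext (congrArg AlgHom.toRingHom h)
      exact (cancel_mono _).1 h')
    exact ⟨Finite.of_injective e he, (Nat.card_le_card_of_injective e he).trans hcard⟩
  choose d hd using hb
  obtain ⟨t, ht⟩ := isCompact_univ.elim_finite_subcover (fun y => (V y : Set Y)) (fun y => (V y).2)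
    (fun y _ => Set.mem_iUnion.2 ⟨y, (hyV y).1⟩)
  refine ⟨t.sup d, fun Ω _ _ η => ?_⟩
  obtain ⟨y, hy, hyη⟩ := Set.mem_iUnion₂.1 (ht (Set.mem_univ (η.base default)))
  exact ⟨(hd y Ω η hyη).1, (hd y Ω η hyη).2.trans (Finset.le_sup hy)⟩

end GrothLib.ConstrCpt
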