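import Groth.Agent.Lib.ConstrCpt.Gen

/-!
# Constructible sheaves are finitely presented by generators `j_! ℤ/m`
-/

set_option autoImplicit false
set_option backward.isDefEq.respectTransparency.types false
universe u

open CategoryTheory CategoryTheory.Limits AlgebraicGeometry Opposite Topology
open GrothLib.EtSite

noncomputable section

namespace GrothLib.ConstrCpt

variable {X : Scheme.{u}} {P : ℕ → Prop}

/-- A point is outside the support of a constructible sheaf as soon as one geometric stalk over it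
vanishes. -/
theorem notMem_supp (Q : EtCoh.Ab X) (hQ : EtPBC.IsConstructible Q) {Ω : Type u} [Field Ω]
    [IsSepClosed Ω] (ξ : Spec (CommRingCat.of Ω) ⟶ X) (h : IsZero ((EtCoh.stalk ξ).obj Q)) :
    ξ.base default ∉ EtPBC.supp Q := by
  intro hx
  obtain ⟨U, hU, hxU, -⟩ := Constructible.affine_nhd (X := X) isOpen_univ (Set.mem_univ (ξ.base default))
  obtain ⟨n, T, g, himm, -, -, hcov, hflc⟩ := hQ U hU
  obtain ⟨i, t, ht⟩ := Set.mem_iUnion.1 (hcov.ge hxU)
  haveI := himm i
  rw [← ht] at hx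
  obtain ⟨W, w, hw, M, _, _, a, ha⟩ := (Constructible.mem_supp_iff_chart (g i) Q (hflc i) t).1 hx
  obtain ⟨ζ, hζ, hζt⟩ := Constructible.exists_point_lift (g i) ξ t ht
  obtain ⟨s, -⟩ := exists_fib ζ w (hw.trans hζt.symm)
  subst hζ
  haveI : Subsingleton ((EtCoh.stalk ζ).obj ((EtCoh.pull (g i)).obj Q)) :=
    AddCommGrpCat.subsingleton_of_isZero (IsZero.of_iso h ((pullStalkIso ζ (g i)).app Q))
  exact not_subsingleton M (ha _ ζ s).1.subsingleton

theorem isZero_stalk_of_notMem_supp {Q : EtCoh.Ab X} {Ω : Type u} [Field Ω] [IsSepClosed Ω]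
    (ξ : Spec (CommRingCat.of Ω) ⟶ X) (h : ξ.base default ∉ EtPBC.supp Q) :
    IsZero ((EtCoh.stalk ξ).obj Q) := by
  by_contra hz
  exact h ⟨Ω, inferInstance, inferInstance, ξ, Constructible.range_eq_singleton ξ, hz⟩

theorem isZero_stalk_cokernel_iff {A B : EtCoh.Ab X} (φ : A ⟶ B) {Ω : Type u} [Field Ω]
    [IsSepClosed Ω] (ξ : Spec (CommRingCat.of Ω) ⟶ X) :
    IsZero ((EtCoh.stalk ξ).obj (cokernel φ)) ↔ Function.Surjective ((EtCoh.stalk ξ).map φ) := by
  let e := PreservesCokernel.iso (EtCoh.stalk ξ) φ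
  rw [← AddCommGrpCat.epi_iff_surjective]
  constructor
  · intro h
    exact Preadditive.epi_of_isZero_cokernel _ (IsZero.of_iso h e.symm)
  · intro h
    exact IsZero.of_iso (isZero_cokernel_of_epi _) e

variable {F : EtCoh.Ab X}

theorem range_total_subset {Ω : Type u} [Field Ω] [IsSepClosed Ω]
    (ξ : Spec (CommRingCat.of Ω) ⟶ X) {ι ι' : Type*} [Finite ι] [Finite ι'] (g : ι → Gen P F)
    (g' : ι' → Gen P F) (h : ∀ i, ∃ j, g' j = g i) :
    Set.range ((EtCoh.stalk ξ).map (total g)) ⊆ Set.range ((EtCoh.stalk ξ).map (total g')) := by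
  choose e he using h
  obtain rfl : (fun i => g' (e i)) = g := funext he
  rintro _ ⟨q, rfl⟩
  refine ⟨(EtCoh.stalk ξ).map (incl g' e) q, ?_⟩
  rw [← ConcreteCategory.comp_apply, ← Functor.map_comp, incl_total]

theorem mem_range_total {Ω : Type u} [Field Ω] [IsSepClosed Ω]
    (ξ : Spec (CommRingCat.of Ω) ⟶ X) {ι : Type*} [Finite ι] (g : ι → Gen P F) (i : ι)
    {p : (EtCoh.stalk ξ).obj F} (hp : p ∈ Set.range ((EtCoh.stalk ξ).map (g i).φ)) :
    p ∈ Set.range ((EtCoh.stalk ξ).map (total g)) := by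
  obtain ⟨q, rfl⟩ := hp
  refine ⟨(EtCoh.stalk ξ).map (biproduct.ι (fun i => (g i).obj) i) q, ?_⟩
  rw [← ConcreteCategory.comp_apply, ← Functor.map_comp, biproduct.ι_desc]

variable [CompactSpace X] [QuasiSeparatedSpace X]

theorem exists_finite_subcover (C : X → Set X) (hC : ∀ x, Topology.IsConstructible (C x))
    (hx : ∀ x, x ∈ C x) : ∃ t : Finset X, ∀ y, ∃ x ∈ t, y ∈ C x := by
  obtain ⟨t, ht⟩ := @IsCompact.elim_finite_subcover X (constructibleTopology _) Set.univ _
    (GrothLib.Constr.isCompact_constructibleTopology_of_isClosed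
      (@isClosed_univ X (constructibleTopology _)))
    C (fun x => (GrothLib.Constr.isOpen_constructibleTopology_of_isConstructible (hC x)).1)
    (fun x _ => Set.mem_iUnion.2 ⟨x, hx x⟩)
  exact ⟨t, fun y => by simpa using ht (Set.mem_univ y)⟩

theorem notMem_supp_of_hits (hP : ∀ m, P m → 0 < m) (hF : EtPBC.IsConstructible F)
    (S : Finset (Gen P F)) {Ω : Type u} [Field Ω] [IsSepClosed Ω]
    (ξ : Spec (CommRingCat.of Ω) ⟶ X)
    (h : ∀ p, ∃ i : ↥S, p ∈ Set.range ((EtCoh.stalk ξ).map i.1.φ)) :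
    ξ.base default ∉ EtPBC.supp (cokernel (total fun i : ↥S => i.1)) := by
  refine notMem_supp _ (Constructible.isConstructible_kernel_cokernel _
    (isConstructible_src hP _) hF).2 ξ ((isZero_stalk_cokernel_iff _ ξ).2 fun p => ?_)
  obtain ⟨i, hi⟩ := h p
  exact mem_range_total ξ (fun i : ↥S => i.1) i hi

/-- A constructible sheaf is a quotient of a finite sum of generators. -/
theorem exists_epi (hP : ∀ m, P m → 0 < m) (hF : EtPBC.IsConstructible F) (hT : Tors P F) :
    ∃ (a : ℕ) (g : Fin a → Gen P F), Epi (total g) := by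
  classical
  have hpt : ∀ x : X, ∃ S : Finset (Gen P F),
      x ∉ EtPBC.supp (cokernel (total fun i : ↥S => i.1)) := by
    intro x
    haveI := Constructible.finite_stalk F hF (gpt x)
    haveI := Fintype.ofFinite ((EtCoh.stalk (gpt x)).obj F)
    choose g hg using fun p => exists_hit hT (gpt x) p
    obtain ⟨S, hS⟩ : ∃ S : Finset (Gen P F), ∀ p, g p ∈ S :=
      ⟨Finset.univ.image g, fun p => Finset.mem_image_of_mem g (Finset.mem_univ p)⟩
    refine ⟨S, ?_⟩
    exact (congrArg (fun y => y ∉ EtPBC.supp (cokernel (total fun i : ↥S => i.1)))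
      (gpt_default x)).mp (notMem_supp_of_hits hP hF S (gpt x)
        fun p => ⟨⟨g p, hS p⟩, hg p⟩)
  choose S hS using hpt
  obtain ⟨t, ht⟩ := exists_finite_subcover
    (fun x => (EtPBC.supp (cokernel (total fun i : ↥(S x) => i.1)))ᶜ)
    (fun x => (Constructible.isLocallyConstructible_supp _ (Constructible.isConstructible_kernel_cokernel
      _ (isConstructible_src hP fun i : ↥(S x) => i.1) hF).2).isConstructible.compl) hS
  let e := (t.biUnion S).equivFin
  refine ⟨_, fun k => (e.symm k).1, epi_of_stalks _ fun Ω _ _ ξ p => ?_⟩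
  obtain ⟨x, hx, hξ⟩ := ht (ξ.base default)
  exact range_total_subset ξ (fun i : ↥(S x) => i.1) (fun k => (e.symm k).1)
    (fun i => ⟨e ⟨i.1, Finset.mem_biUnion.2 ⟨x, hx, i.2⟩⟩, by rw [Equiv.symm_apply_apply]⟩)
    ((isZero_stalk_cokernel_iff _ ξ).1 (isZero_stalk_of_notMem_supp ξ hξ) p)

/-- A constructible sheaf is the cokernel of a map between finite sums of generators. -/
theorem exists_presentation (hP : ∀ m, P m → 0 < m) (hF : EtPBC.IsConstructible F) (hT : Tors P F)
    (hK : ∀ (a : ℕ) (g : Fin a → Gen P F), Tors P (kernel (total g))) :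
    ∃ (a b : ℕ) (g : Fin a → Gen P F) (h : Fin b → Gen P (kernel (total g))),
      Nonempty (F ≅ cokernel (total h ≫ kernel.ι (total g))) := by
  obtain ⟨a, g, hg⟩ := exists_epi hP hF hT
  obtain ⟨b, h, hh⟩ := exists_epi hP (Constructible.isConstructible_kernel_cokernel _
    (isConstructible_src hP g) hF).1 (hK a g)
  refine ⟨a, b, g, h, ⟨?_ ≪≫ (cokernelEpiComp (total h) (kernel.ι (total g))).symm⟩⟩
  exact (Abelian.epiIsCokernelOfKernel _ (kernelIsKernel (total g))).coconePointUniqueUpToIso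
    (colimit.isColimit _)

end GrothLib.ConstrCpt
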