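import Groth.Agent.Lib.ConstrCpt.FamilyDescent
import Groth.Agent.Lib.Constr.Images
import Groth.Agent.Lib.DiagGrp.KernelFP
import Groth.Agent.Lib.EtShriek.BC2
import Groth.Agent.Lib.EtShriek.ExtZero
import Groth.Agent.Lib.Constructible.ExtZeroConst
import Groth.Agent.Lib.Constructible.Image
import Groth.Agent.Lib.Constructible.Serre
import Groth.Agent.Lib.Specialize.Bad

/-!
# Direct images with proper support along quasi-finite morphisms of finite presentation

Constructibility is proved by induction on a bound for the geometric fibres: after base change along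
the morphism itself the diagonal splits off one point of every fibre.
-/

set_option autoImplicit false
set_option backward.isDefEq.respectTransparency.types false
universe u

open CategoryTheory CategoryTheory.Limits AlgebraicGeometry Opposite Topology
open GrothLib.EtSite GrothLib.EtShriek

noncomputable section

namespace GrothLib.ConstrCpt

/-- A sheaf with vanishing stalks is constructible. -/
theorem isConstructible_of_stalks_zero {X : Scheme.{u}} (G : EtCoh.Ab X)
    (h : ∀ (Ω : Type u) [Field Ω] [IsSepClosed Ω] (ξ : Spec (CommRingCat.of Ω) ⟶ X),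
      IsZero ((EtCoh.stalk ξ).obj G)) : EtPBC.IsConstructible G := by
  have hG : IsZero G := (IsZero.iff_id_eq_zero G).2
    (GrothLib.ExtZero.zero_of_stalks _ fun Ω _ _ ξ => (h Ω ξ).eq_of_src _ _)
  have hA := Specialize.isConstructible_of_flc
    (Constructible.isFiniteLocallyConstant_const X PUnit.{1})
  exact Constructible.isConstructible_openPart_separated.isConstructible_of_iso
    ((isZero_kernel_of_mono (𝟙 _)).iso hG)
    (Constructible.isConstructible_kernel_cokernel (𝟙 _) hA hA).1

/-- Direct image with proper support along an endomorphism equal to the identity. -/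
theorem isConstructible_Sh_id {V : Scheme.{u}} [CompactSpace V] [QuasiSeparatedSpace V] (g : V ⟶ V)
    [LocallyOfFiniteType g] (hg : g = 𝟙 V) (H : EtCoh.Ab V) (hH : EtPBC.IsConstructible H) :
    EtPBC.IsConstructible ((Sh g).obj H) := by
  subst hg
  have := isIso_ι_of_isProper (𝟙 V)
  refine Constructible.isConstructible_openPart_separated.isConstructible_of_iso
    (asIso ((ι (𝟙 V)).app H)).symm (isConstructible_of_pull (𝟙 V) _ ?_)
  have := GrothLib.EtSite.isIso_counit (𝟙 V) H
  exact Constructible.isConstructible_openPart_separated.isConstructible_of_iso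
    (asIso ((EtCoh.pullPushAdj (𝟙 V)).counit.app H)).symm hH

/-- A bound on the geometric fibres. -/
def BddPts {U Y : Scheme.{u}} (f : U ⟶ Y) (n : ℕ) : Prop :=
  ∀ (Ω : Type u) [Field Ω] [IsSepClosed Ω] (η : Spec (CommRingCat.of Ω) ⟶ Y),
    Finite (GrothLib.ExtZero.Pts f η) ∧ Nat.card (GrothLib.ExtZero.Pts f η) ≤ n

theorem isConstructible_Sh_of_bddPts (n : ℕ) :
    ∀ {U Y : Scheme.{u}} [CompactSpace Y] [QuasiSeparatedSpace Y] (f : U ⟶ Y) [IsSeparated f]
      [LocallyQuasiFinite f] [QuasiCompact f] [LocallyOfFinitePresentation f],
      BddPts f n → ∀ (F : EtCoh.Ab U), EtPBC.IsConstructible F →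
        EtPBC.IsConstructible ((Sh f).obj F) := by
  induction n using Nat.strong_induction_on with
  | _ n ih =>
    intro U Y _ _ f _ _ _ _ hb F hF
    classical
    haveI : CompactSpace U := QuasiCompact.compactSpace_of_compactSpace f
    choose V hV hxV using fun x : U => exists_isAffineOpen_mem_and_subset (U := ⊤) (x := x) trivial
    obtain ⟨t, ht⟩ := isCompact_univ.elim_finite_subcover (fun x => (V x : Set U)) (fun x => (V x).2)
      (fun x _ => Set.mem_iUnion.2 ⟨x, (hxV x).1⟩)
    have hE : IsConstructible (Set.range f.base)ᶜ := by
      rw [isConstructible_compl, ← Set.image_univ]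
      exact f.isConstructible_image IsConstructible.univ
    obtain ⟨Z, g, hZa, -, -, -, hg⟩ :=
      Constr.exists_isAffine_locallyOfFinitePresentation_range_eq hE
    let S : Option {x // x ∈ t} → Scheme.{u} := fun k =>
      match k with
      | none => Z
      | some x => (V x.1 : Scheme.{u})
    let h : ∀ k, S k ⟶ Y := fun k =>
      match k with
      | none => g
      | some x => (V x.1).ι ≫ f
    haveI : ∀ k, IsAffine (S k) := fun k => by
      cases k with
      | none => exact hZa
      | some x => exact hV x.1
    refine isConstructible_of_affine_family S h (fun y => ?_) _ fun k => ?_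
    · by_cases hy : y ∈ Set.range f.base
      · obtain ⟨u, rfl⟩ := hy
        obtain ⟨x, hx, hxu⟩ := Set.mem_iUnion₂.1 (ht (Set.mem_univ u))
        exact ⟨some ⟨x, hx⟩, ⟨u, hxu⟩, rfl⟩
      · exact ⟨none, hg.ge hy⟩
    cases k with
    | none =>
      refine isConstructible_of_stalks_zero _ fun Ω _ _ ζ => ?_
      refine IsZero.of_iso ?_ ((pullStalkIso ζ g).app _)
      let σ : Spec (CommRingCat.of (AlgebraicClosure Ω)) ⟶ Spec (CommRingCat.of Ω) :=
        Spec.map (CommRingCat.ofHom (algebraMap Ω (AlgebraicClosure Ω)))
      refine isZero_stalk_of_same (ζ ≫ g) ((σ ≫ ζ) ≫ g) ?_ ?_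
      · exact congrArg (fun z => (ζ ≫ g).base z) (Subsingleton.elim _ _)
      refine IsZero.of_iso ?_ ((EtCoh.stalk ((σ ≫ ζ) ≫ g)).mapIso ((lowerShriekIso f).symm.app F))
      obtain ⟨e⟩ := nonempty_stalk_iso f ((σ ≫ ζ) ≫ g) F
      refine IsZero.of_iso ?_ e
      rw [IsZero.iff_id_eq_zero]
      refine Sigma.hom_ext _ _ fun ξ => absurd ?_ (hg.le ⟨(σ ≫ ζ).base default, rfl⟩)
      exact ⟨ξ.1.base default, congrArg (fun m => m.base default) ξ.2⟩
    | some x =>
      haveI : IsAffine (V x.1 : Scheme.{u}) := hV x.1
      let W : Scheme.{u} := (V x.1 : Scheme.{u})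
      let i : W ⟶ U := (V x.1).ι
      let c : W ⟶ Y := i ≫ f
      let P : Scheme.{u} := pullback f c
      let p : P ⟶ U := pullback.fst f c
      let q : P ⟶ W := pullback.snd f c
      haveI : IsSeparated q := MorphismProperty.pullback_snd _ _ ‹_›
      haveI : LocallyQuasiFinite q := MorphismProperty.pullback_snd _ _ ‹_›
      haveI : QuasiCompact q := MorphismProperty.pullback_snd _ _ ‹_›
      haveI : LocallyOfFinitePresentation q := MorphismProperty.pullback_snd _ _ ‹_›
      haveI := isIso_bcSh_lqf f c q p (IsPullback.of_hasPullback f c) F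
      refine Constructible.isConstructible_openPart_separated.isConstructible_of_iso
        (asIso (bcSh f c q p (IsPullback.of_hasPullback f c) F)).symm ?_
      let G : EtCoh.Ab P := (EtCoh.pull p).obj F
      have hG : EtPBC.IsConstructible G := Constructible.isConstructible_pull _ _ hF
      haveI : CompactSpace P := QuasiCompact.compactSpace_of_compactSpace q
      haveI : QuasiSeparatedSpace P := quasiSeparatedSpace_of_quasiSeparated q
      let s : W ⟶ P := pullback.lift i (𝟙 W) (by simp [c])
      have hsq : s ≫ q = 𝟙 W := pullback.lift_snd _ _ _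
      haveI : IsClosedImmersion (s ≫ q) := by rw [hsq]; infer_instance
      haveI : IsClosedImmersion s := IsClosedImmersion.of_comp s q
      haveI : LocallyOfFinitePresentation s :=
        DiagGrp.lfp_of_comp_of_lft s q (by rw [hsq]; infer_instance) inferInstance
      have hsc : IsConstructible (Set.range s.base) := by
        rw [← Set.image_univ]
        exact s.isConstructible_image IsConstructible.univ
      let O : P.Opens := ⟨(Set.range s.base)ᶜ, s.isClosedEmbedding.isClosed_range.isOpen_compl⟩
      let j : O.toScheme ⟶ P := O.ι
      have hj : Set.range j.base = (Set.range s.base)ᶜ := O.range_ι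
      haveI : CompactSpace ↥O.toScheme :=
        Constructible.compactSpace_of_isConstructible_range O.ι (by rw [hj]; exact hsc.compl)
      haveI : EtShriek.JCont j := Constructible.jcont j
      haveI : LocallyQuasiFinite (j ≫ q) := inferInstance
      haveI : QuasiCompact j := QuasiCompact.of_comp j q
      obtain ⟨w, hw⟩ := GrothLib.ExtZero.shortExact_localization s j hj G
      haveI : PreservesFiniteColimits (Sh q) := by
        have := (Sh q).preservesHomology_of_preservesEpis_and_kernels
        exact (Sh q).preservesFiniteColimits_of_preservesHomology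
      refine Constructible.isConstructible_middle _ (hw.map_of_exact (Sh q)) ?_ ?_
      · have := isIso_toSh j
        let G' : EtCoh.Ab O.toScheme := (EtShriek.restrAlong j).obj G
        refine Constructible.isConstructible_openPart_separated.isConstructible_of_iso
          ((compIso j q).app G' ≪≫ (Sh q).mapIso ((asIso (toSh j)).symm.app G')) ?_
        have hG' : EtPBC.IsConstructible G' :=
          Constructible.isConstructible_openPart_separated.isConstructible_of_iso
            ((GrothLib.ExtZero.restrIsoPull j).app G).symm (Constructible.isConstructible_pull _ _ hG)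
        by_cases hne : Nonempty ↥W
        · obtain ⟨w₀⟩ := hne
          have hn : 1 ≤ n := by
            haveI := (hb _ (gpt w₀ ≫ c)).1
            haveI : Nonempty (GrothLib.ExtZero.Pts f (gpt w₀ ≫ c)) := ⟨⟨gpt w₀ ≫ i, Category.assoc _ _ _⟩⟩
            exact le_trans (Nat.succ_le_of_lt Nat.card_pos) (hb _ (gpt w₀ ≫ c)).2
          refine ih (n - 1) (by omega) (j ≫ q) (fun Ω _ _ η => ?_) G' hG'
          haveI := (hb Ω (η ≫ c)).1
          let p₀ : GrothLib.ExtZero.Pts f (η ≫ c) := ⟨η ≫ i, Category.assoc _ _ _⟩
          let e : GrothLib.ExtZero.Pts (j ≫ q) η → GrothLib.ExtZero.Pts f (η ≫ c) := fun v =>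
            ⟨(v.1 ≫ j) ≫ p, by
              rw [Category.assoc, pullback.condition]
              exact (congrArg (· ≫ c) ((Category.assoc _ _ _).trans v.2)) ▸
                (Category.assoc _ _ _).symm⟩
          have he : Function.Injective e := fun v v' hv => Subtype.ext ((cancel_mono j).1
            (pullback.hom_ext (congrArg Subtype.val hv)
              (((Category.assoc _ _ _).trans v.2).trans ((Category.assoc _ _ _).trans v'.2).symm)))
          have hne' : ∀ v, e v ≠ p₀ := fun v hv => by
            have hvs : v.1 ≫ j = η ≫ s := pullback.hom_ext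
              (by rw [Category.assoc η s, pullback.lift_fst]; exact congrArg Subtype.val hv)
              (by rw [Category.assoc η s, pullback.lift_snd, Category.comp_id]
                  exact (Category.assoc _ _ _).trans v.2)
            have h1 : (v.1 ≫ j).base default ∈ Set.range j.base := ⟨v.1.base default, rfl⟩
            rw [hvs, hj] at h1
            exact h1 ⟨η.base default, rfl⟩
          haveI := Finite.of_injective e he
          refine ⟨inferInstance, Nat.le_sub_one_of_lt (lt_of_lt_of_le ?_ (hb Ω (η ≫ c)).2)⟩
          haveI := Fintype.ofFinite (GrothLib.ExtZero.Pts (j ≫ q) η)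
          haveI := Fintype.ofFinite (GrothLib.ExtZero.Pts f (η ≫ c))
          rw [Nat.card_eq_fintype_card, Nat.card_eq_fintype_card]
          exact Fintype.card_lt_of_injective_of_notMem e he (b := p₀) fun ⟨v, hv⟩ => hne' v hv
        · refine isConstructible_of_stalks_zero _ fun Ω _ _ η => absurd ⟨η.base default⟩ hne
      · refine Constructible.isConstructible_openPart_separated.isConstructible_of_iso
          ((compIso s q).app _ ≪≫ (Sh q).mapIso ?_)
          (isConstructible_Sh_id (s ≫ q) hsq _ (Constructible.isConstructible_pull s G hG))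
        haveI := isIso_ι_of_isProper s
        exact asIso ((ι s).app _)

end GrothLib.ConstrCpt
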