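import Groth.Agent.Lib.ConstrCpt.ColimPres
import Groth.Agent.Lib.ConstrCpt.Presentation
import Groth.Agent.Lib.ConstrCpt.Closure

/-!
# Torsion sheaves vanishing on a compact set of the constructible topology
-/

set_option autoImplicit false
set_option backward.isDefEq.respectTransparency.types false
universe u

open CategoryTheory CategoryTheory.Limits AlgebraicGeometry Opposite Topology
open GrothLib.EtSite GrothLib.EtShriek

noncomputable section

namespace GrothLib.ConstrCpt

variable {X : Scheme.{u}} {F : EtCoh.Ab X}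

/-- An element killed in `F` is killed by adding a relation. -/
theorem exists_kill_same [CompactSpace X] [QuasiSeparatedSpace X] (T : Idx F) {Ω : Type u}
    [Field Ω] [IsSepClosed Ω] (ξ : Spec (CommRingCat.of Ω) ⟶ X)
    (y : (EtCoh.stalk ξ).obj ((diag F).obj T))
    (hy : (EtCoh.stalk ξ).map ((coconeF F).ι.app T) y = 0) :
    ∃ (T' : Idx F) (h : T ≤ T'), gens T' ⊆ gens T ∧
      (EtCoh.stalk ξ).map ((diag F).map (homOfLE h)) y = 0 := by
  classical
  obtain ⟨z, rfl⟩ := surjective_stalk_π (rho T) ξ y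
  rw [← ConcreteCategory.comp_apply, ← Functor.map_comp, π_coconeF] at hy
  obtain ⟨k, rfl⟩ := exists_kernel_lift (totS (gens T)) ξ z hy
  obtain ⟨g, q, rfl⟩ := exists_hit (tors_of_mono (kernel.ι (totS (gens T)))
    (tors_of_constructible (isConstructible_src (fun _ h => h) _))) ξ k
  let r : Rel F := ⟨gens T, g⟩
  let T' : Idx F := insert (Sum.inr r) T
  refine ⟨T', Finset.subset_insert _ _, ?_, ?_⟩
  · intro a ha
    obtain ⟨b, hb, hab⟩ := Finset.mem_biUnion.1 ha
    rcases Finset.mem_insert.1 hb with rfl | hb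
    · exact hab
    · exact Finset.mem_biUnion.2 ⟨b, hb, hab⟩
  let f : T ⟶ T' := homOfLE (Finset.subset_insert _ _)
  let r' : ↥T'.toRight := ⟨r, Finset.mem_toRight.2 (Finset.mem_insert_self _ _)⟩
  have e : g.φ ≫ kernel.ι (totS (gens T)) ≫ cokernel.π (rho T) ≫ (diag F).map f = 0 := by
    rw [π_diag_map]
    have h1 : relMap T' r' = g.φ ≫ kernel.ι (totS (gens T)) ≫ incS (gens_mono (leOfHom f)) := rfl
    have h2 := congrArg (· ≫ cokernel.π (rho T')) (h1.symm.trans (ι_rho T' r').symm)
    simp only [Category.assoc, cokernel.condition, comp_zero] at h2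
    exact h2
  simp only [← ConcreteCategory.comp_apply, ← Functor.map_comp, Category.assoc]
  rw [e, Functor.map_zero]
  rfl

theorem epi_diag_map {T T' : Idx F} (h : T ≤ T') (hg : gens T' ⊆ gens T) :
    Epi ((diag F).map (homOfLE h)) := by
  haveI : Epi (incS (gens_mono h)) :=
    epi_of_epi_fac (f := incS hg) (h := 𝟙 _) ((incS_trans hg (gens_mono h)).trans (incS_refl _))
  haveI : Epi (cokernel.π (rho T) ≫ (diag F).map (homOfLE h)) := by
    rw [π_diag_map]
    exact epi_comp _ _
  exact epi_of_epi (cokernel.π (rho T)) _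

theorem supp_subset_of_epi {A B : EtCoh.Ab X} (f : A ⟶ B) [Epi f] : EtPBC.supp B ⊆ EtPBC.supp A := by
  rintro x ⟨Ω, _, _, ξ, hξ, hne⟩
  exact ⟨Ω, inferInstance, inferInstance, ξ, hξ, fun hz => hne (IsZero.of_epi ((EtCoh.stalk ξ).map f) hz)⟩

variable [CompactSpace X] [QuasiSeparatedSpace X]

theorem exists_stalk_zero (T : Idx F) (x : X) (hx : IsZero ((EtCoh.stalk (gpt x)).obj F)) :
    ∃ (T' : Idx F) (_ : T ≤ T'), gens T' ⊆ gens T ∧ x ∉ EtPBC.supp ((diag F).obj T') := by
  classical
  haveI := AddCommGrpCat.subsingleton_of_isZero hx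
  haveI := Constructible.finite_stalk _ (isConstructible_diag T) (gpt x)
  haveI := Fintype.ofFinite ((EtCoh.stalk (gpt x)).obj ((diag F).obj T))
  choose S hS hg hk using fun y : (EtCoh.stalk (gpt x)).obj ((diag F).obj T) =>
    exists_kill_same T (gpt x) y ((AddCommGrpCat.subsingleton_of_isZero hx).elim _ _)
  let T' : Idx F := T ∪ Finset.univ.biUnion S
  have hT : T ≤ T' := Finset.subset_union_left
  have hgT : gens T' ⊆ gens T := by
    intro a ha
    obtain ⟨b, hb, hab⟩ := Finset.mem_biUnion.1 ha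
    rcases Finset.mem_union.1 hb with hb | hb
    · exact Finset.mem_biUnion.2 ⟨b, hb, hab⟩
    · obtain ⟨y, -, hy⟩ := Finset.mem_biUnion.1 hb
      exact hg y (Finset.mem_biUnion.2 ⟨b, hy, hab⟩)
  refine ⟨T', hT, hgT, ?_⟩
  haveI := epi_diag_map hT hgT
  have hz : IsZero ((EtCoh.stalk (gpt x)).obj ((diag F).obj T')) := by
    refine (IsZero.iff_id_eq_zero _).2 (AddCommGrpCat.ext fun p => ?_)
    obtain ⟨y, rfl⟩ := (AddCommGrpCat.epi_iff_surjective
      ((EtCoh.stalk (gpt x)).map ((diag F).map (homOfLE hT)))).1 inferInstance p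
    have hy : S y ≤ T' :=
      (Finset.subset_biUnion_of_mem S (Finset.mem_univ y)).trans Finset.subset_union_right
    rw [show homOfLE hT = homOfLE (hS y) ≫ homOfLE hy from rfl, Functor.map_comp, Functor.map_comp]
    simp only [ConcreteCategory.comp_apply, hk y, map_zero]
  exact (gpt_default x) ▸ notMem_supp _ (isConstructible_diag T') (gpt x) hz

/-- Enough stages avoid a compact set of the constructible topology on which `F` vanishes. -/
theorem exists_avoid {C : Set X} (hC : @IsCompact X (constructibleTopology X) C)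
    (h0 : ∀ x ∈ C, IsZero ((EtCoh.stalk (gpt x)).obj F)) (T : Idx F) :
    ∃ T' : Idx F, T ≤ T' ∧ Disjoint C (EtPBC.supp ((diag F).obj T')) := by
  classical
  choose S hS hg hx using fun x : C => exists_stalk_zero T x.1 (h0 _ x.2)
  obtain ⟨t, ht⟩ := @IsCompact.elim_finite_subcover X (constructibleTopology _) C C hC
    (fun x => (EtPBC.supp ((diag F).obj (S x)))ᶜ)
    (fun x => (GrothLib.Constr.isOpen_constructibleTopology_of_isConstructible
      (Constructible.isLocallyConstructible_supp _ (isConstructible_diag (S x))).isConstructible.compl).1)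
    (fun x hxC => Set.mem_iUnion.2 ⟨⟨x, hxC⟩, hx ⟨x, hxC⟩⟩)
  let T' : Idx F := T ∪ t.biUnion S
  refine ⟨T', Finset.subset_union_left, Set.disjoint_left.2 fun y hy hy' => ?_⟩
  obtain ⟨x, hxt, hyx⟩ := Set.mem_iUnion₂.1 (ht hy)
  have hle : S x ≤ T' := (Finset.subset_biUnion_of_mem S hxt).trans Finset.subset_union_right
  have hgT : gens T' ⊆ gens (S x) := by
    refine subset_trans ?_ (gens_mono (hS x))
    intro a ha
    obtain ⟨b, hb, hab⟩ := Finset.mem_biUnion.1 ha
    rcases Finset.mem_union.1 hb with hb | hb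
    · exact Finset.mem_biUnion.2 ⟨b, hb, hab⟩
    · obtain ⟨z, -, hz⟩ := Finset.mem_biUnion.1 hb
      exact hg z (Finset.mem_biUnion.2 ⟨b, hz, hab⟩)
  haveI := epi_diag_map hle hgT
  exact hyx (supp_subset_of_epi ((diag F).map (homOfLE hle)) hy')

/-- A torsion sheaf vanishing on `C` is a filtered colimit of constructible sheaves with supports
whose closures avoid `C`. -/
theorem exists_colimit_avoiding (hF : EtCoh.IsTorsion F) {C : Set X}
    (hC : @IsCompact X (constructibleTopology X) C) (hsupp : Disjoint C (EtPBC.supp F))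
    (hgen : ∀ ⦃y x : X⦄, y ⤳ x → x ∈ C → y ∈ C) :
    ∃ (J : Type (u + 1)) (_ : SmallCategory J) (_ : IsFiltered J) (D : J ⥤ EtCoh.Ab X)
      (c : Cocone D) (_ : IsColimit c), Nonempty (c.pt ≅ F) ∧
      ∀ j, EtPBC.IsConstructible (D.obj j) ∧
        ∃ Z : Set X, IsClosed Z ∧ Disjoint C Z ∧ EtPBC.supp (D.obj j) ⊆ Z := by
  classical
  have h0 : ∀ x ∈ C, IsZero ((EtCoh.stalk (gpt x)).obj F) := fun x hx =>
    isZero_stalk_of_notMem_supp (gpt x) (by rw [gpt_default]; exact Set.disjoint_left.1 hsupp hx)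
  let J := {T : Idx F // Disjoint C (EtPBC.supp ((diag F).obj T))}
  haveI : Nonempty J := by
    obtain ⟨T, -, hT⟩ := exists_avoid hC h0 (∅ : Idx F)
    exact ⟨⟨T, hT⟩⟩
  haveI : IsDirectedOrder J := ⟨fun a b => by
    obtain ⟨T, h, hT⟩ := exists_avoid hC h0 (a.1 ∪ b.1)
    exact ⟨⟨T, hT⟩, Finset.subset_union_left.trans h, Finset.subset_union_right.trans h⟩⟩
  let ι : J ⥤ Idx F := (Subtype.mono_coe _).functor
  let D : J ⥤ EtCoh.Ab X := ι ⋙ diag F
  let c : Cocone D := (coconeF F).whisker ι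
  have hT := tors_of_isTorsion hF
  have hc : StalkColim D c := fun Ω _ _ ξ => by
    refine ⟨fun x => ?_, fun T y hy => ?_⟩
    · obtain ⟨T, y, rfl⟩ := (stalkColim_coconeF hT Ω ξ).1 x
      obtain ⟨T', h, hT'⟩ := exists_avoid hC h0 T
      refine ⟨⟨T', hT'⟩, (EtCoh.stalk ξ).map ((diag F).map (homOfLE h)) y, ?_⟩
      refine ((ConcreteCategory.comp_apply ((EtCoh.stalk ξ).map ((diag F).map (homOfLE h)))
        ((EtCoh.stalk ξ).map ((coconeF F).ι.app T')) y).symm).trans ?_
      rw [← Functor.map_comp, (coconeF F).w (homOfLE h)]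
    · obtain ⟨T₁, f, hf⟩ := (stalkColim_coconeF hT Ω ξ).2 T.1 y hy
      obtain ⟨T', h, hT'⟩ := exists_avoid hC h0 T₁
      refine ⟨⟨T', hT'⟩, homOfLE (leOfHom f |>.trans h), ?_⟩
      change (EtCoh.stalk ξ).map ((diag F).map (f ≫ homOfLE h)) y = 0
      rw [Functor.map_comp, Functor.map_comp, ConcreteCategory.comp_apply, hf, map_zero]
  haveI : IsFiltered J := inferInstance
  haveI : HasColimitsOfShape J (EtCoh.Ab X) := hasColimitsOfShape_small J
  obtain ⟨hcol⟩ := @isColimit_of_stalkColim _ _ _ _ D c hc (HasColimitsOfShape.has_colimit D)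
    fun Ω _ _ ξ => (PreservesFilteredColimitsOfSize.preserves_filtered_colimits J).preservesColimit
  refine ⟨J, inferInstance, inferInstance, D, c, hcol, ⟨Iso.refl F⟩, fun T =>
    ⟨isConstructible_diag T.1, closure (EtPBC.supp ((diag F).obj T.1)), isClosed_closure,
      Set.disjoint_left.2 fun x hx hx' => ?_, subset_closure⟩⟩
  obtain ⟨y, hy, hyx⟩ := exists_specializes
    (Constructible.isLocallyConstructible_supp _ (isConstructible_diag T.1)).isConstructible hx'
  exact Set.disjoint_left.1 T.2 (hgen hyx hx) hy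

theorem exists_colimit_avoiding_genericPoint [IrreducibleSpace X] (hF : EtCoh.IsTorsion F)
    (hη : genericPoint X ∉ EtPBC.supp F) :
    ∃ (J : Type (u + 1)) (_ : SmallCategory J) (_ : IsFiltered J) (D : J ⥤ EtCoh.Ab X)
      (c : Cocone D) (_ : IsColimit c), Nonempty (c.pt ≅ F) ∧
      ∀ j, EtPBC.IsConstructible (D.obj j) ∧
        ∃ Z : Set X, IsClosed Z ∧ genericPoint X ∉ Z ∧ EtPBC.supp (D.obj j) ⊆ Z := by
  obtain ⟨J, i1, i2, D, c, hc, e, h⟩ := exists_colimit_avoiding hF
    (C := {genericPoint X}) (@isCompact_singleton X (constructibleTopology X) _)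
    (Set.disjoint_singleton_left.2 hη) (fun y x hyx hx => by
      rw [Set.mem_singleton_iff] at hx ⊢
      subst hx
      exact (hyx.antisymm ((genericPoint_spec X).specializes trivial)).eq)
  refine ⟨J, i1, i2, D, c, hc, e, fun j => ⟨(h j).1, ?_⟩⟩
  obtain ⟨Z, hZ, hd, hs⟩ := (h j).2
  exact ⟨Z, hZ, Set.disjoint_singleton_left.1 hd, hs⟩

theorem exists_colimit_in_stable {X : Scheme.{u}} [IsNoetherian X] {E : Set X}
    (hE : StableUnderSpecialization E) {F : EtCoh.Ab X} (hF : EtCoh.IsTorsion F)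
    (hsupp : EtPBC.supp F ⊆ E) :
    ∃ (J : Type (u + 1)) (_ : SmallCategory J) (_ : IsFiltered J) (D : J ⥤ EtCoh.Ab X)
      (c : Cocone D) (_ : IsColimit c), Nonempty (c.pt ≅ F) ∧
      ∀ j, EtPBC.IsConstructible (D.obj j) ∧
        ∃ Z : Set X, IsClosed Z ∧ Z ⊆ E ∧ EtPBC.supp (D.obj j) ⊆ Z := by
  haveI : TopologicalSpace.NoetherianSpace X := inferInstance
  have hopen : IsOpen[constructibleTopology X] E := by
    have : E = ⋃ x : E, closure {(x : X)} := by
      refine Set.Subset.antisymm (fun x hx => Set.mem_iUnion.2 ⟨⟨x, hx⟩, subset_closure rfl⟩) ?_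
      exact Set.iUnion_subset fun x y hy => hE (specializes_iff_mem_closure.2 hy) x.2
    rw [this]
    refine @isOpen_iUnion X _ (constructibleTopology X) _ fun x => ?_
    exact (GrothLib.Constr.isOpen_constructibleTopology_of_isConstructible
      (IsConstructible.of_compl (Constructible.isConstructible_of_isOpen_of_noetherian
        isClosed_closure.isOpen_compl))).1
  obtain ⟨J, i1, i2, D, c, hc, e, h⟩ := exists_colimit_avoiding hF (C := Eᶜ)
    (GrothLib.Constr.isCompact_constructibleTopology_of_isClosed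
      ((@isClosed_compl_iff X (constructibleTopology X) E).2 hopen))
    (Set.disjoint_left.2 fun x hx hx' => hx (hsupp hx'))
    (fun y x hyx hx hy => hx (hE hyx hy))
  refine ⟨J, i1, i2, D, c, hc, e, fun j => ⟨(h j).1, ?_⟩⟩
  obtain ⟨Z, hZ, hd, hs⟩ := (h j).2
  exact ⟨Z, hZ, Set.disjoint_compl_left_iff_subset.1 hd, hs⟩

end GrothLib.ConstrCpt
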