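import Groth.Agent.Lib.ConstrCpt.Descent
import Groth.Agent.Lib.ConstrCpt.Partition
import Groth.Agent.Lib.Specialize.Flc
import Groth.Agent.Lib.Constructible.Noetherian
import Groth.Agent.S0414
import Groth.Agent.Lib.RedSub.Basic
import Groth.Agent.Lib.EtSite.PushStalk
import Mathlib.AlgebraicGeometry.Morphisms.UniversallyOpen

/-!
# Finite local constancy descends along flat surjective morphisms; uniform stratifications
-/

set_option autoImplicit false
set_option backward.isDefEq.respectTransparency.types false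
universe u v

open CategoryTheory CategoryTheory.Limits AlgebraicGeometry Opposite Topology
open GrothLib.EtSite GrothLib.Specialize GrothLib.LocConst

noncomputable section

namespace GrothLib.ConstrCpt

variable {W Z : Scheme.{u}} (h : W ⟶ Z) {F : EtCoh.Ab Z}

/-- A family of sections on `V` induces one on the base change. -/
def unitChart {V : Z.Etale} {M : Type} [AddCommGroup M] (a : M →+ EtCoh.sect F V) :
    M →+ EtCoh.sect ((EtCoh.pull h).obj F) ((EtCoh.bc h).obj V) :=
  (((EtCoh.pullPushAdj h).unit.app F).hom.app (op V)).hom.comp a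

theorem good_unitChart_iff {V : Z.Etale} {M : Type} [AddCommGroup M] (a : M →+ EtCoh.sect F V)
    (w : ((EtCoh.bc h).obj V).left) :
    Good ((EtCoh.bc h).obj V) (unitChart h a) w ↔ Good V a (pullback.fst V.hom h w) := by
  obtain ⟨t', ht'⟩ := exists_fib (gpt (((EtCoh.bc h).obj V).hom w))
    (U := (EtCoh.bc h).obj V) w (gpt_default _).symm
  let ξ := gpt (((EtCoh.bc h).obj V).hom w)
  obtain ⟨t, rfl⟩ := exists_fib_bc ξ h V t'
  have hw : pointOf ((fiberBcIso ξ h).inv.app V t) = w := ht'
  have hp : pointOf t = pullback.fst V.hom h w := by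
    refine Eq.trans ?_ (congrArg (pullback.fst V.hom h).base hw)
    have e : t.left = ((fiberBcIso ξ h).inv.app V t).left ≫ pullback.fst V.hom h := by
      rw [GrothLib.EtSite.fiberBcIso_inv_eq_liftPt]
      exact (pullback.lift_fst _ _ _).symm
    exact congrArg (fun k : Spec (CommRingCat.of _) ⟶ V.left => k.base default) e
  have key : (Function.Bijective fun m => germ ξ ((EtCoh.pull h).obj F)
      ((fiberBcIso ξ h).inv.app V t) (unitChart h a m)) ↔
      Function.Bijective fun m => germ (ξ ≫ h) F t (a m) := by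
    rw [show (fun m => germ ξ ((EtCoh.pull h).obj F) ((fiberBcIso ξ h).inv.app V t) (unitChart h a m)) =
      ((pullStalkIso ξ h).inv.app F) ∘ fun m => germ (ξ ≫ h) F t (a m) from
        funext fun m => germ_unit ξ h F t (a m)]
    exact Function.Bijective.of_comp_iff' (ConcreteCategory.bijective_of_isIso _) _
  constructor
  · intro hg
    rw [← hp]
    exact good_of_bijective a t (key.1 (hg _ ξ _ hw))
  · intro hg
    exact hw ▸ good_of_bijective (unitChart h a) _ (key.2 (hg _ (ξ ≫ h) t hp))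

/-- Goodness is stable under generization and specialization for a sheaf with invertible
specialization maps. -/
theorem good_iff_of_specializes [IsLocallyNoetherian W] {G : EtCoh.Ab W}
    (hG : EtCoh.IsFiniteLocallyConstant G) {V : W.Etale} {M : Type} [AddCommGroup M]
    (a : M →+ EtCoh.sect G V) {y z : V.left} (hyz : y ⤳ z) : Good V a y ↔ Good V a z := by
  obtain ⟨tz, htz⟩ := exists_fib (gpt (V.hom.base z)) (U := V) z (gpt_default _).symm
  obtain ⟨Ω', _, _, ξ', φ, hφ⟩ := exists_spec_over tz y (by rw [show pointOf tz = z from htz]; exact hyz)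
  obtain ⟨U, t, N, _, _, b, hb⟩ := exists_chart (gpt (V.hom.base z)) hG
  haveI := isIso_of_chart hb t φ
  exact ⟨fun hy => htz ▸ good_of_bijective a tz ((bijective_spec_iff φ a tz).2 (hy Ω' ξ' _ hφ)),
    fun hz => hφ ▸ good_of_bijective a _ ((bijective_spec_iff φ a tz).1 (hz _ _ tz htz))⟩

theorem pointOf_spec_specializes {Ω Ω' : Type u} [Field Ω] [IsSepClosed Ω] [Field Ω'] [IsSepClosed Ω']
    {ξ : Spec (CommRingCat.of Ω) ⟶ Z} {ξ' : Spec (CommRingCat.of Ω') ⟶ Z} {V : Z.Etale}
    (φ : Scheme.pointSmallEtale ξ' ⟶ Scheme.pointSmallEtale ξ)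
    (t : (Scheme.pointSmallEtale ξ).fiber.obj V) : pointOf (φ.hom.app V t) ⤳ pointOf t := by
  refine specializes_iff_forall_open.2 fun s hs hts => ?_
  let O : V.left.Opens := ⟨s, hs⟩
  let g := opensHom V O
  obtain ⟨t₀, ht₀, -⟩ := GrothLib.EtBasicB.exists_fib_lift ξ g t ⟨pointOf t, hts⟩ rfl
  have e : φ.hom.app V t = (Scheme.pointSmallEtale ξ').fiber.map g (φ.hom.app (opensObj V O) t₀) :=
    ((congrArg (φ.hom.app V) ht₀).symm).trans (NatTrans.naturality_apply φ.hom g t₀)
  rw [e]
  exact (pointOf (φ.hom.app (opensObj V O) t₀)).2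

/-- Finite local constancy descends along flat surjective morphisms. -/
theorem flc_of_pull_flat_surjective [IsLocallyNoetherian W] [IsLocallyNoetherian Z] [Flat h]
    [Surjective h] (hfin : ∀ (Ω : Type u) [Field Ω] [IsSepClosed Ω] (ξ : Spec (CommRingCat.of Ω) ⟶ Z),
      Finite ((EtCoh.stalk ξ).obj F))
    (hF : EtCoh.IsFiniteLocallyConstant ((EtCoh.pull h).obj F)) :
    EtCoh.IsFiniteLocallyConstant F := by
  refine (flc_iff_spec_iso F hfin).2 fun Ω Ω' _ _ _ _ ξ ξ' φ => ?_
  obtain ⟨V, g, t, M, _, _, a, -, -, hbij⟩ := exists_local_iso F ξ (hfin Ω ξ) (topFib ξ)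
  let p : ((EtCoh.bc h).obj V).left ⟶ V.left := pullback.fst V.hom h
  haveI : Flat p := MorphismProperty.pullback_fst _ _ ‹_›
  haveI : Surjective p := MorphismProperty.pullback_fst _ _ ‹_›
  obtain ⟨w, hw⟩ := p.surjective (pointOf t)
  obtain ⟨w', hw', hpw⟩ := Flat.generalizingMap p
    (hw.symm ▸ pointOf_spec_specializes φ t)
  have h1 : Good ((EtCoh.bc h).obj V) (unitChart h a) w :=
    (good_unitChart_iff h a w).2 (hw.symm ▸ good_of_bijective a t hbij)
  have h2 := (good_unitChart_iff h a w').1 ((good_iff_of_specializes hF _ hw').2 h1)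
  rw [show pullback.fst V.hom h w' = pointOf (φ.hom.app V t) from hpw] at h2
  have h3 : Function.Bijective fun m => germ ξ' F (φ.hom.app V t) (a m) := h2 Ω' ξ' _ rfl
  rw [ConcreteCategory.isIso_iff_bijective]
  have e : (fun m => germ ξ' F (φ.hom.app V t) (a m)) =
      ((GrothendieckTopology.Point.Hom.sheafFiber (A := AddCommGrpCat.{u + 1}) φ).app F) ∘
        fun m => germ ξ F t (a m) := funext fun m => (sheafFiber_germ φ F t (a m)).symm
  exact (Function.Bijective.of_comp_iff _ hbij).1 (e ▸ h3)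

omit h

variable {X X' : Scheme.{u}}

theorem isConstructible_preimage_range [IsNoetherian X] {T : Scheme.{u}} (g : T ⟶ X) [IsImmersion g] :
    IsConstructible (Set.range g.base) := by
  obtain ⟨O, C, hO, hC, e⟩ := g.isLocallyClosed_range
  rw [e]
  exact (Constructible.isConstructible_of_isOpen_of_noetherian hO).inter
    (IsConstructible.of_compl (Constructible.isConstructible_of_isOpen_of_noetherian hC.isOpen_compl))

/-- An open piece of every point closure is adapted to the whole family. -/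
theorem exists_uniform_piece [IsNoetherian X] [IsNoetherian X'] (q : X' ⟶ X) [LocallyOfFiniteType q]
    [Surjective q] {ι : Type v} (F : ι → EtCoh.Ab X) (hcF : ∀ k, EtPBC.IsConstructible (F k))
    {n : ℕ} (T : Fin n → Scheme.{u}) (g : ∀ i, T i ⟶ X') [∀ i, IsImmersion (g i)]
    (hcov : (⋃ i, Set.range (g i).base) = Set.univ)
    (hF : ∀ k i, EtCoh.IsFiniteLocallyConstant ((EtCoh.pull (g i)).obj ((EtCoh.pull q).obj (F k))))
    (x : X) : ∃ (V : Scheme.{u}) (e : V ⟶ X), IsImmersion e ∧ x ∈ Set.range e.base ∧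
      ∀ k, EtCoh.IsFiniteLocallyConstant ((EtCoh.pull e).obj (F k)) := by
  let I := Scheme.IdealSheafData.vanishingIdeal (⟨closure {x}, isClosed_closure⟩ : TopologicalSpace.Closeds X)
  let Zx := I.subscheme
  let c : Zx ⟶ X := I.subschemeι
  have hc : Set.range c.base = closure {x} := by
    rw [Scheme.IdealSheafData.range_subschemeι, Scheme.IdealSheafData.coe_support_vanishingIdeal]
    rfl
  haveI : IsReduced Zx := GrothLib.RedSub.isReduced_subscheme_vanishingIdeal _
  obtain ⟨η, hη⟩ : x ∈ Set.range c.base := hc.ge (subset_closure rfl)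
  obtain ⟨x', hx'⟩ := q.surjective x
  obtain ⟨i, t, ht⟩ := Set.mem_iUnion.1 (hcov.ge (Set.mem_univ x'))
  let r : T i ⟶ X := g i ≫ q
  haveI : IsLocallyNoetherian (T i) := LocallyOfFiniteType.isLocallyNoetherian (g i)
  let P := pullback r c
  let p : P ⟶ Zx := pullback.snd r c
  obtain ⟨t', ht', ht''⟩ := Scheme.Pullback.exists_preimage_pullback (f := r) (g := c) t η
    (by rw [hη]; exact (congrArg q.base ht).trans hx')
  haveI : IsLocallyNoetherian Zx := LocallyOfFiniteType.isLocallyNoetherian c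
  obtain ⟨A, hA, htA, -⟩ := exists_isAffineOpen_mem_and_subset (U := ⊤) (x := t') trivial
  haveI : IsAffine (A : Scheme.{u}) := hA
  let p' : (A : Scheme.{u}) ⟶ Zx := A.ι ≫ p
  haveI : QuasiSeparatedSpace Zx := quasiSeparatedSpace_of_quasiSeparated c
  haveI : QuasiCompact p' := QuasiCompact.of_comp p' (terminal.from Zx)
  obtain ⟨U, hU, hflat, hlfp⟩ := Groth.Agent.S0414.result p'
  have hηU : η ∈ U := by
    haveI : Nonempty Zx := ⟨η⟩
    obtain ⟨y, hy⟩ := hU.nonempty
    have hsp : η ⤳ y := c.isEmbedding.isInducing.specializes_iff.1 (by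
      rw [hη]
      exact specializes_iff_mem_closure.2 (hc.le ⟨y, rfl⟩))
    exact hsp.mem_open U.2 hy
  let pU := p' ∣_ U
  haveI : Flat pU := hflat
  haveI : LocallyOfFinitePresentation pU := hlfp
  let O : U.toScheme.Opens := ⟨Set.range pU.base, pU.isOpenMap.isOpen_range⟩
  let h' : (p' ⁻¹ᵁ U).toScheme ⟶ O.toScheme := IsOpenImmersion.lift O.ι pU (by
    rw [Scheme.Opens.range_ι]; rfl)
  have hh' : h' ≫ O.ι = pU := IsOpenImmersion.lift_fac _ _ _
  haveI : Flat h' := by
    haveI : Flat (h' ≫ O.ι) := hh'.symm ▸ inferInstance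
    exact MorphismProperty.of_postcomp (W := @Flat) (W' := @IsOpenImmersion) h' O.ι inferInstance inferInstance
  haveI : Surjective h' := ⟨fun z => by
    obtain ⟨w, hw⟩ := z.2
    exact ⟨w, O.ι.isOpenEmbedding.injective ((congrArg (fun m => m.base w) hh').trans hw)⟩⟩
  let e : O.toScheme ⟶ X := O.ι ≫ U.ι ≫ c
  haveI : IsLocallyNoetherian O.toScheme := LocallyOfFiniteType.isLocallyNoetherian e
  haveI : IsLocallyNoetherian (p' ⁻¹ᵁ U).toScheme :=
    LocallyOfFiniteType.isLocallyNoetherian ((p' ⁻¹ᵁ U).ι ≫ A.ι ≫ pullback.fst r c)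
  refine ⟨O.toScheme, e, inferInstance, ?_, fun k => ?_⟩
  · let w : (p' ⁻¹ᵁ U).toScheme := ⟨⟨t', htA⟩, show p t' ∈ U from ht''.symm ▸ hηU⟩
    refine ⟨h' w, ?_⟩
    rw [← hη, ← ht'']
    change (h' ≫ O.ι ≫ U.ι ≫ c).base w = _
    rw [reassoc_of% hh', morphismRestrict_ι_assoc]
    rfl
  · refine flc_of_pull_flat_surjective h' (fun Ω _ _ ξ => ?_) ?_
    · exact Constructible.finite_stalk _ (Constructible.isConstructible_pull e _ (hcF k)) ξ
    have w : h' ≫ e = ((p' ⁻¹ᵁ U).ι ≫ A.ι ≫ pullback.fst r c ≫ g i) ≫ q := by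
      rw [reassoc_of% hh', morphismRestrict_ι_assoc]
      simp only [p', Category.assoc]
      rw [← pullback.condition]
    refine Constructible.flc_of_iso ((EtCore.pullComp h' e).app (F k)) ?_
    refine Constructible.flc_of_fac (((p' ⁻¹ᵁ U).ι ≫ A.ι ≫ pullback.fst r c)) (g i ≫ q) _
      (by rw [w]; simp only [Category.assoc]) (F k) ?_
    exact Constructible.flc_of_iso ((EtCore.pullComp (g i) q).app (F k)).symm (hF k i)

end GrothLib.ConstrCpt
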